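import Mathlib

/-!
Relations for the amalgam of the two 2-local subgroups of the Higman-Sims group:
generators `c` (order four, square the central involution), `d`, `f`, `r` of `4^3 : L₃(2)` and the further
involution `h` of the centraliser of `c ^ 2`.
-/

set_option autoImplicit false

namespace Cfsg.Agent.HSRecog

variable {G : Type*} [Group G]

/-- The second basis element of the abelian normal subgroup. -/
def e1 (c d : G) : G := d * c * d⁻¹

/-- The third basis element of the abelian normal subgroup. -/
def e2 (c d : G) : G := d * d * c * d⁻¹ * d⁻¹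

/-- An involution of the normal subgroup of order 64 outside the abelian one. -/
def a1 (d r : G) : G := d * d * d * r * d⁻¹ * d⁻¹ * d⁻¹

/-- An element of the centraliser, off the normal subgroup of order 64. -/
def rw' (c d r : G) : G := r * (e1 c d * e2 c d)

/-- The relations of `4^3 : L₃(2)`. -/
structure MRel (c d f r : G) : Prop where
  c4 : c ^ 4 = 1
  cc : c * e1 c d = e1 c d * c
  cc2 : c * e2 c d = e2 c d * c
  poly : d * e2 c d * d⁻¹ = c * e1 c d ^ 3 * e2 c d ^ 2
  d7 : d ^ 7 = 1
  f3 : f ^ 3 = 1
  fd : f * d * f⁻¹ = d * d
  fc : f * c * f⁻¹ = c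
  rr : r * r = 1
  rc : r * c * r = c⁻¹
  re : r * e1 c d * r = e2 c d
  rf : r * f * r = f⁻¹
  rd : (r * d) ^ 3 = 1

/-- The relations of the further involution of the centraliser. -/
structure HRel (c d f r h : G) : Prop extends MRel c d f r where
  hh : h * h = 1
  hc : h * c * h = c⁻¹
  hr : h * r * h = r
  hf : h * f * h = f
  hv : h * (e1 c d * e1 c d) * h = a1 d r
  braid : (h * rw' c d r) ^ 3 = 1

/-- The element that closes the circuit of length eight. -/
def b0 (c d f r : G) : G := e1 c d ^ 2 * e2 c d ^ 2 * d ^ 5 * f * r * d ^ 2

/-- The image of `h` under the path of length four. -/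
def loopEl (d h : G) : G := (d * h * d * d)⁻¹ * h * (d * h * d * d)

/-- The relations of the Higman-Sims group. -/
structure HSRel (c d f r h : G) : Prop extends HRel c d f r h where
  loop : loopEl d h = h * b0 c d f r

/-- The five generators. -/
def genSet (c d f r h : G) : Set G := {c, d, f, r, h}

end Cfsg.Agent.HSRecog
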