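import Cfsg.Agent.HSRecog.Cert0.Inst
import Cfsg.Agent.HSRecog.Cert1.Inst
import Cfsg.Agent.HSRecog.Cert2.Inst
import Cfsg.Agent.HSRecog.Cert3.Inst
import Cfsg.Agent.HSRecog.Cert4.Inst
import Cfsg.Agent.HSRecog.Cert5.Inst
import Cfsg.Agent.HSRecog.Cert6.Inst
import Cfsg.Agent.HSRecog.Cert7.Inst

/-!
The bound for the Higman-Sims relations, and the collapse of the other candidates.
-/

set_option autoImplicit false

namespace Cfsg.Agent.HSRecog

universe v

theorem bEl_seven {G : Type*} [Group G] {c d f r : G} (hR : MRel c d f r) :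
    bEl c d f r 7 = b0 c d f r := by
  have e5 : d ^ 5 = d⁻¹ * d⁻¹ := by
    rw [← mul_inv_rev, eq_inv_iff_mul_eq_one, ← hR.d7]
    simp only [pow_succ, pow_zero, one_mul, mul_assoc]
  have e1' : e1 c d ^ 2 = d * c * c * d⁻¹ := by rw [pow_two]; simp only [e1]; group
  have e2' : e2 c d ^ 2 = d * d * c * c * d⁻¹ * d⁻¹ := by rw [pow_two]; simp only [e2]; group
  rw [b0, e1', e2', e5]
  simp [bEl, bList, lvG, pow_two, mul_assoc]

/-- The bound. -/
theorem card_le (G : Type v) [Group G] [Finite G] (c d f r h : G) (hR : HSRel c d f r h)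
    (hg : Subgroup.closure (genSet c d f r h) = ⊤) : Nat.card G ≤ 44352000 :=
  (Cert7.bound hR.toHRel (by rw [bEl_seven hR.toMRel]; exact hR.loop) hg).2

/-- With one of the other candidates the further involution lies in the first parabolic. -/
theorem collapse {G : Type*} [Group G] [Finite G] {c d f r h : G} {n : ℕ} (hn : n < 7)
    (hR : HRel c d f r h) (hloop : loopEl d h = h * bEl c d f r n)
    (hg : Subgroup.closure (genSet c d f r h) = ⊤) : h ∈ Subgroup.closure ({c, d, f, r} : Set G) := by
  have key : (Subgroup.closure ({c, d, f, r} : Set G)).index ≤ 1 := by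
    interval_cases n
    · exact (Cert0.bound hR hloop hg).1
    · exact (Cert1.bound hR hloop hg).1
    · exact (Cert2.bound hR hloop hg).1
    · exact (Cert3.bound hR hloop hg).1
    · exact (Cert4.bound hR hloop hg).1
    · exact (Cert5.bound hR hloop hg).1
    · exact (Cert6.bound hR hloop hg).1
  have h0 : (Subgroup.closure ({c, d, f, r} : Set G)).index ≠ 0 := Subgroup.index_ne_zero_of_finite
  rw [Subgroup.index_eq_one.1 (by omega : (Subgroup.closure ({c, d, f, r} : Set G)).index = 1)]
  trivial

end Cfsg.Agent.HSRecog
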