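import Cfsg.Agent.HSRecog.Basic

/-!
A group with the relations of `4^3 : L₃(2)` has at most 10752 elements.
-/

set_option autoImplicit false
set_option linter.all false

namespace Cfsg.Agent.HSRecog

open Subgroup

variable {G : Type*} [Group G] {c d f r : G}

namespace MRel

variable (h : MRel c d f r)
include h

theorem dinv : d⁻¹ = d ^ 6 := by
  apply inv_eq_of_mul_eq_one_right
  rw [← pow_succ']
  exact h.d7

theorem finv : f⁻¹ = f ^ 2 := by
  apply inv_eq_of_mul_eq_one_right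
  rw [← pow_succ']
  exact h.f3

theorem rinv : r⁻¹ = r := inv_eq_of_mul_eq_one_right h.rr

theorem cc12 : e1 c d * e2 c d = e2 c d * e1 c d := by
  have e : e2 c d = d * e1 c d * d⁻¹ := by simp only [e1, e2]; group
  calc e1 c d * e2 c d = d * (c * e1 c d) * d⁻¹ := by rw [e]; simp only [e1]; group
    _ = d * (e1 c d * c) * d⁻¹ := by rw [h.cc]
    _ = e2 c d * e1 c d := by rw [e]; simp only [e1]; group

/-- The normal forms of the abelian normal subgroup. -/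
def nfW (c d : G) (a : Fin 4 × Fin 4 × Fin 4) : G :=
  c ^ (a.1 : ℕ) * e1 c d ^ (a.2.1 : ℕ) * e2 c d ^ (a.2.2 : ℕ)

theorem e14 : e1 c d ^ 4 = 1 := by
  rw [e1, conj_pow, h.c4, mul_one, mul_inv_cancel]

theorem e24 : e2 c d ^ 4 = 1 := by
  rw [show e2 c d = (d * d) * c * (d * d)⁻¹ by simp only [e2]; group, conj_pow, h.c4, mul_one,
    mul_inv_cancel]

theorem pow_mod4 {x : G} (hx : x ^ 4 = 1) (n : ℕ) : x ^ n = x ^ (n % 4) := by
  conv_lhs => rw [← Nat.div_add_mod n 4, pow_add, pow_mul, hx, one_pow, one_mul]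

theorem nfW_mul (a b : Fin 4 × Fin 4 × Fin 4) : nfW c d a * nfW c d b = nfW c d (a + b) := by
  obtain ⟨i, j, k⟩ := a
  obtain ⟨i', j', k'⟩ := b
  have k1 : Commute c (e1 c d) := h.cc
  have k2 : Commute c (e2 c d) := h.cc2
  have k12 : Commute (e1 c d) (e2 c d) := h.cc12
  simp only [nfW, Prod.mk_add_mk, Fin.val_add]
  rw [← pow_mod4 h h.c4, ← pow_mod4 h h.e14, ← pow_mod4 h h.e24, pow_add, pow_add, pow_add]
  calc c ^ (i : ℕ) * e1 c d ^ (j : ℕ) * e2 c d ^ (k : ℕ) *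
        (c ^ (i' : ℕ) * e1 c d ^ (j' : ℕ) * e2 c d ^ (k' : ℕ))
      = c ^ (i : ℕ) * e1 c d ^ (j : ℕ) * (e2 c d ^ (k : ℕ) * c ^ (i' : ℕ)) * e1 c d ^ (j' : ℕ) *
          e2 c d ^ (k' : ℕ) := by group
    _ = c ^ (i : ℕ) * (e1 c d ^ (j : ℕ) * c ^ (i' : ℕ)) * (e2 c d ^ (k : ℕ) * e1 c d ^ (j' : ℕ)) *
          e2 c d ^ (k' : ℕ) := by rw [← (k2.pow_pow (i' : ℕ) (k : ℕ)).eq]; group
    _ = c ^ (i : ℕ) * c ^ (i' : ℕ) * (e1 c d ^ (j : ℕ) * e1 c d ^ (j' : ℕ)) *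
          (e2 c d ^ (k : ℕ) * e2 c d ^ (k' : ℕ)) := by
      rw [← (k1.pow_pow (i' : ℕ) (j : ℕ)).eq, ← (k12.pow_pow (j' : ℕ) (k : ℕ)).eq]; group

/-- The set of normal forms. -/
theorem range_nfW_mul {x y : G} (hx : x ∈ Set.range (nfW c d)) (hy : y ∈ Set.range (nfW c d)) :
    x * y ∈ Set.range (nfW c d) := by
  obtain ⟨a, rfl⟩ := hx
  obtain ⟨b, rfl⟩ := hy
  exact ⟨a + b, (h.nfW_mul a b).symm⟩

theorem c_nfW : c ∈ Set.range (nfW c d) := ⟨(1, 0, 0), by simp [nfW]⟩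

theorem e1_nfW : e1 c d ∈ Set.range (nfW c d) := ⟨(0, 1, 0), by simp [nfW]⟩

theorem e2_nfW : e2 c d ∈ Set.range (nfW c d) := ⟨(0, 0, 1), by simp [nfW]⟩

theorem one_nfW : (1 : G) ∈ Set.range (nfW c d) := ⟨0, by simp [nfW]⟩

theorem pow_nfW {x : G} (hx : x ∈ Set.range (nfW c d)) : ∀ n : ℕ, x ^ n ∈ Set.range (nfW c d)
  | 0 => by rw [pow_zero]; exact h.one_nfW
  | n + 1 => by rw [pow_succ]; exact h.range_nfW_mul (pow_nfW hx n) hx

/-- A conjugation that keeps the three generators in the normal forms keeps the normal forms. -/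
theorem conj_nfW {u : G} (h0 : u * c * u⁻¹ ∈ Set.range (nfW c d))
    (h1 : u * e1 c d * u⁻¹ ∈ Set.range (nfW c d)) (h2 : u * e2 c d * u⁻¹ ∈ Set.range (nfW c d))
    {x : G} (hx : x ∈ Set.range (nfW c d)) : u * x * u⁻¹ ∈ Set.range (nfW c d) := by
  obtain ⟨⟨i, j, k⟩, rfl⟩ := hx
  rw [nfW, show u * (c ^ (i : ℕ) * e1 c d ^ (j : ℕ) * e2 c d ^ (k : ℕ)) * u⁻¹ =
    (u * c ^ (i : ℕ) * u⁻¹) * (u * e1 c d ^ (j : ℕ) * u⁻¹) * (u * e2 c d ^ (k : ℕ) * u⁻¹) by group,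
    ← conj_pow, ← conj_pow, ← conj_pow]
  exact h.range_nfW_mul (h.range_nfW_mul (h.pow_nfW h0 _) (h.pow_nfW h1 _)) (h.pow_nfW h2 _)

theorem conj_d {x : G} (hx : x ∈ Set.range (nfW c d)) : d * x * d⁻¹ ∈ Set.range (nfW c d) :=
  h.conj_nfW h.e1_nfW
    (by rw [show d * e1 c d * d⁻¹ = e2 c d by simp only [e1, e2]; group]; exact h.e2_nfW)
    (by rw [h.poly]
        exact h.range_nfW_mul (h.range_nfW_mul h.c_nfW (h.pow_nfW h.e1_nfW _)) (h.pow_nfW h.e2_nfW _))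
    hx

theorem conj_dpow {x : G} (hx : x ∈ Set.range (nfW c d)) :
    ∀ n : ℕ, d ^ n * x * (d ^ n)⁻¹ ∈ Set.range (nfW c d)
  | 0 => by simpa using hx
  | n + 1 => by
    have e : d ^ (n + 1) * x * (d ^ (n + 1))⁻¹ = d * (d ^ n * x * (d ^ n)⁻¹) * d⁻¹ := by
      rw [pow_succ']; group
    rw [e]; exact h.conj_d (conj_dpow hx n)

theorem fdn : ∀ n : ℕ, f * d ^ n = d ^ (2 * n) * f
  | 0 => by simp
  | n + 1 => by
    rw [pow_succ, ← mul_assoc, fdn n, mul_assoc, show f * d = d * d * f by rw [← h.fd]; group,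
      show 2 * (n + 1) = 2 * n + 2 by ring, pow_add, pow_two]
    group

theorem conj_f {x : G} (hx : x ∈ Set.range (nfW c d)) : f * x * f⁻¹ ∈ Set.range (nfW c d) := by
  refine h.conj_nfW (by rw [h.fc]; exact h.c_nfW) ?_ ?_ hx
  · have e : f * e1 c d * f⁻¹ = e2 c d := by
      calc f * e1 c d * f⁻¹ = (f * d * f⁻¹) * (f * c * f⁻¹) * (f * d * f⁻¹)⁻¹ := by
            simp only [e1]; group
        _ = e2 c d := by rw [h.fd, h.fc]; simp only [e2]; group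
    rw [e]; exact h.e2_nfW
  · have e : f * e2 c d * f⁻¹ = d ^ 4 * c * (d ^ 4)⁻¹ := by
      calc f * e2 c d * f⁻¹ =
            (f * d * f⁻¹) * (f * d * f⁻¹) * (f * c * f⁻¹) * ((f * d * f⁻¹) * (f * d * f⁻¹))⁻¹ := by
            simp only [e2]; group
        _ = _ := by
          rw [h.fd, h.fc, show d ^ 4 = d * d * (d * d) by simp only [pow_succ, pow_zero, one_mul, mul_assoc]]
    rw [e]; exact h.conj_dpow h.c_nfW 4

theorem conj_r {x : G} (hx : x ∈ Set.range (nfW c d)) : r * x * r⁻¹ ∈ Set.range (nfW c d) := by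
  refine h.conj_nfW ?_ ?_ ?_ hx
  · rw [h.rinv, h.rc, show c⁻¹ = c ^ 3 from inv_eq_of_mul_eq_one_right (by rw [← pow_succ']; exact h.c4)]
    exact h.pow_nfW h.c_nfW 3
  · rw [h.rinv, h.re]; exact h.e2_nfW
  · rw [h.rinv, ← h.re, show r * (r * e1 c d * r) * r = (r * r) * e1 c d * (r * r) by group, h.rr,
      one_mul, mul_one]
    exact h.e1_nfW

/-- Elements of the subgroup of index eight. -/
def KSet (c d f : G) : Set G :=
  {g | ∃ (x : G) (i j : ℕ), x ∈ Set.range (nfW c d) ∧ g = x * d ^ i * f ^ j}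

theorem mul_KSet {a b : G} (ha : a ∈ KSet c d f) (hb : b ∈ KSet c d f) : a * b ∈ KSet c d f := by
  obtain ⟨x, i, j, hx, rfl⟩ := ha
  obtain ⟨y, k, l, hy, rfl⟩ := hb
  induction j generalizing y k l with
  | zero =>
    refine ⟨x * (d ^ i * y * (d ^ i)⁻¹), i + k, l, h.range_nfW_mul hx (h.conj_dpow hy i), ?_⟩
    rw [pow_add, pow_zero, mul_one]; group
  | succ j ih =>
    have e : x * d ^ i * f ^ (j + 1) * (y * d ^ k * f ^ l) =
        x * d ^ i * f ^ j * ((f * y * f⁻¹) * d ^ (2 * k) * f ^ (l + 1)) := by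
      calc _ = x * d ^ i * f ^ j * ((f * y * f⁻¹) * (f * d ^ k) * f ^ l) := by
            rw [pow_succ]; group
        _ = _ := by rw [h.fdn, pow_succ']; group
    rw [e]
    exact ih _ (2 * k) (l + 1) (h.conj_f hy)

theorem rdr_one : r * d ^ 1 * r = d ^ 6 * r * d ^ 6 := by
  have e : r * d * r * (d * r * d) = 1 := by
    rw [← h.rd]; simp only [pow_succ, pow_zero, one_mul, mul_assoc]
  rw [pow_one, eq_inv_of_mul_eq_one_left e, mul_inv_rev, mul_inv_rev, h.rinv, h.dinv, ← mul_assoc]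

theorem rdr_six : r * d ^ 6 * r = d * r * d := by
  have e := congrArg (·⁻¹) h.rdr_one
  simp only [mul_inv_rev, h.rinv, pow_one] at e
  rw [← mul_assoc, ← h.dinv] at e
  rw [← h.dinv, e, ← mul_assoc, inv_inv]

theorem df (n : ℕ) : d ^ n * f = f * d ^ (4 * n) := by
  have e := h.fdn (4 * n)
  rw [e, show 2 * (4 * n) = 7 * n + n by ring, pow_add, pow_mul, h.d7, one_pow, one_mul]

theorem rf_mul : r * f = f ^ 2 * r := by
  calc r * f = r * f * r * r := by rw [mul_assoc _ r r, h.rr, mul_one]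
    _ = f ^ 2 * r := by rw [h.rf, h.finv]

theorem fr_mul : f * r = r * f ^ 2 := by
  calc f * r = r * (r * f * r) := by rw [← mul_assoc, ← mul_assoc, h.rr, one_mul]
    _ = r * f ^ 2 := by rw [h.rf, h.finv]

theorem rdr_two : r * d ^ 2 * r = d ^ 3 * f * r * d ^ 3 := by
  have e1 : d ^ 2 = f * d ^ 1 * f⁻¹ := by rw [pow_one, h.fd, pow_two]
  have e2 : f ^ 2 * d ^ 6 = d ^ 3 * f ^ 2 := by
    rw [pow_two, mul_assoc, h.fdn, ← mul_assoc, h.fdn, show (2 : ℕ) * (2 * 6) = 7 * 3 + 3 by norm_num,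
      pow_add, pow_mul, h.d7, one_pow, one_mul, mul_assoc]
  have e3 : d ^ 6 * f = f * d ^ 3 := by
    rw [h.df, show 4 * 6 = 7 * 3 + 3 by norm_num, pow_add, pow_mul, h.d7, one_pow, one_mul]
  calc r * d ^ 2 * r = (r * f * r) * (r * d ^ 1 * r) * (r * f⁻¹ * r) := by
        rw [e1]
        calc _ = r * f * (r * r) * d ^ 1 * (r * r) * f⁻¹ * r := by rw [h.rr]; group
          _ = _ := by group
    _ = f ^ 2 * (d ^ 6 * r * d ^ 6) * f := by
        rw [h.rdr_one, h.rf, h.finv, show r * f ^ 2 * r = f by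
          rw [← h.fr_mul, mul_assoc, h.rr, mul_one]]
    _ = d ^ 3 * f ^ 2 * r * (d ^ 6 * f) := by rw [← e2]; group
    _ = d ^ 3 * f ^ 2 * (r * f) * d ^ 3 := by rw [e3]; group
    _ = d ^ 3 * (f ^ 3 * f) * r * d ^ 3 := by rw [h.rf_mul]; group
    _ = _ := by rw [h.f3, one_mul]

theorem rdr_four : r * d ^ 4 * r = d ^ 5 * f ^ 2 * r * d ^ 5 := by
  have e1 : d ^ 4 = f * d ^ 2 * f⁻¹ := by rw [h.fdn]; group
  have e2 : f ^ 2 * d ^ 3 = d ^ 5 * f ^ 2 := by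
    rw [pow_two, mul_assoc, h.fdn, ← mul_assoc, h.fdn, show (2 : ℕ) * (2 * 3) = 7 + 5 by norm_num,
      pow_add, h.d7, one_mul, mul_assoc]
  have e3 : d ^ 3 * f = f * d ^ 5 := by
    rw [h.df, show 4 * 3 = 7 + 5 by norm_num, pow_add, h.d7, one_mul]
  calc r * d ^ 4 * r = (r * f * r) * (r * d ^ 2 * r) * (r * f⁻¹ * r) := by
        rw [e1]
        calc _ = r * f * (r * r) * d ^ 2 * (r * r) * f⁻¹ * r := by rw [h.rr]; group
          _ = _ := by group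
    _ = f ^ 2 * (d ^ 3 * f * r * d ^ 3) * f := by
        rw [h.rdr_two, h.rf, h.finv, show r * f ^ 2 * r = f by
          rw [← h.fr_mul, mul_assoc, h.rr, mul_one]]
    _ = d ^ 5 * (f ^ 2 * f) * r * (d ^ 3 * f) := by rw [← mul_assoc, ← mul_assoc, ← mul_assoc, e2]; group
    _ = d ^ 5 * (f ^ 2 * f) * (r * f) * d ^ 5 := by rw [e3]; group
    _ = d ^ 5 * f ^ 3 * f ^ 2 * r * d ^ 5 := by rw [h.rf_mul]; group
    _ = _ := by rw [h.f3, mul_one]

theorem rdr_inv {m n : ℕ} (hmn : m + n = 7) {x : G} (e : r * d ^ m * r = x) : r * d ^ n * r = x⁻¹ := by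
  rw [← e, mul_inv_rev, mul_inv_rev, h.rinv, ← mul_assoc]
  congr 2
  exact (inv_eq_of_mul_eq_one_right (by rw [← pow_add, hmn, h.d7])).symm

/-- The elements with a place in the eight cosets. -/
def TSet (c d f r : G) : Set G :=
  KSet c d f ∪ {g | ∃ a ∈ KSet c d f, ∃ q : ℕ, g = a * r * d ^ q}

theorem x_KSet {x : G} (hx : x ∈ Set.range (nfW c d)) : x ∈ KSet c d f := ⟨x, 0, 0, hx, by simp⟩

theorem df_KSet (i j : ℕ) : d ^ i * f ^ j ∈ KSet c d f := ⟨1, i, j, h.one_nfW, by rw [one_mul]⟩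

theorem f_mem_KSet : f ∈ KSet c d f := ⟨1, 0, 1, h.one_nfW, by simp⟩

theorem d_mem_KSet : d ∈ KSet c d f := ⟨1, 1, 0, h.one_nfW, by simp⟩

theorem dpow_KSet (n : ℕ) : d ^ n ∈ KSet c d f := ⟨1, n, 0, h.one_nfW, by simp⟩

theorem rdr_mem (q : ℕ) : r * d ^ q * r ∈ TSet c d f r := by
  have eq7 : d ^ q = d ^ (q % 7) := by
    conv_lhs => rw [← Nat.div_add_mod q 7, pow_add, pow_mul, h.d7, one_pow, one_mul]
  rw [eq7]
  have hlt := Nat.mod_lt q (show 7 > 0 by norm_num)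
  interval_cases q % 7
  · left
    rw [pow_zero, mul_one, h.rr]
    exact h.x_KSet h.one_nfW
  · right
    exact ⟨_, h.dpow_KSet 6, 6, h.rdr_one⟩
  · right
    exact ⟨_, h.mul_KSet (h.dpow_KSet 3) h.f_mem_KSet, 3, h.rdr_two⟩
  · right
    refine ⟨_, h.df_KSet 2 2, 2, ?_⟩
    rw [h.rdr_inv (by norm_num) h.rdr_four, mul_inv_rev, mul_inv_rev, mul_inv_rev, h.rinv]
    have e5 : (d ^ 5)⁻¹ = d ^ 2 := inv_eq_of_mul_eq_one_right (by rw [← pow_add, h.d7])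
    have ef : (f ^ 2)⁻¹ = f := inv_eq_of_mul_eq_one_right (by rw [← pow_succ, h.f3])
    rw [e5, ef, ← mul_assoc, ← mul_assoc, mul_assoc (d ^ 2) r f, h.rf_mul, ← mul_assoc]
  · right
    exact ⟨_, h.df_KSet 5 2, 5, h.rdr_four⟩
  · right
    refine ⟨_, h.df_KSet 4 1, 4, ?_⟩
    rw [h.rdr_inv (by norm_num) h.rdr_two, mul_inv_rev, mul_inv_rev, mul_inv_rev, h.rinv]
    have e3 : (d ^ 3)⁻¹ = d ^ 4 := inv_eq_of_mul_eq_one_right (by rw [← pow_add, h.d7])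
    rw [e3, h.finv, ← mul_assoc, ← mul_assoc, mul_assoc (d ^ 4) r (f ^ 2), ← h.fr_mul, ← mul_assoc,
      pow_one]
  · right
    exact ⟨_, h.d_mem_KSet, 1, by rw [h.rdr_six, pow_one]⟩

theorem mul_TSet_left {a b : G} (ha : a ∈ KSet c d f) (hb : b ∈ TSet c d f r) :
    a * b ∈ TSet c d f r := by
  rcases hb with hb | ⟨k, hk, q, rfl⟩
  · exact Or.inl (h.mul_KSet ha hb)
  · exact Or.inr ⟨a * k, h.mul_KSet ha hk, q, by simp only [mul_assoc]⟩

theorem mul_gen_TSet {g x : G} (hx : x ∈ ({c, d, f, r} : Set G)) (hg : g ∈ TSet c d f r) :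
    g * x ∈ TSet c d f r := by
  rcases hg with hg | ⟨k, hk, q, rfl⟩
  · rcases hx with e | e | e | e <;> rw [e]
    · exact Or.inl (h.mul_KSet hg (h.x_KSet h.c_nfW))
    · exact Or.inl (h.mul_KSet hg h.d_mem_KSet)
    · exact Or.inl (h.mul_KSet hg h.f_mem_KSet)
    · exact Or.inr ⟨g, hg, 0, by simp⟩
  · rcases hx with e | e | e | e <;> rw [e]
    · refine Or.inr ⟨_, h.mul_KSet hk (h.x_KSet (h.conj_r (h.conj_dpow h.c_nfW q))), q, ?_⟩
      group
    · exact Or.inr ⟨k, hk, q + 1, by rw [pow_succ]; group⟩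
    · refine Or.inr ⟨k * f ^ 2, h.mul_KSet hk (by simpa using h.df_KSet 0 2), 4 * q, ?_⟩
      rw [mul_assoc, h.df, ← mul_assoc, mul_assoc k r f, h.rf_mul, ← mul_assoc k]
    · have := h.mul_TSet_left hk (h.rdr_mem q)
      rwa [show k * (r * d ^ q * r) = k * r * d ^ q * r by simp only [mul_assoc]] at this

theorem card_le [Finite G] (hgen : closure ({c, d, f, r} : Set G) = ⊤) :
    Nat.card G ≤ 10752 := by
  classical
  have hall : ∀ g, g ∈ TSet c d f r := by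
    intro g
    have hg : g ∈ Submonoid.closure ({c, d, f, r} : Set G) := by
      rw [← Subgroup.closure_toSubmonoid_of_finite, hgen]
      trivial
    induction hg using Submonoid.closure_induction_right with
    | one => exact Or.inl (h.x_KSet h.one_nfW)
    | mul_right a _ x hx ih => exact h.mul_gen_TSet hx ih
  let K : Fin 4 × Fin 4 × Fin 4 × Fin 7 × Fin 3 → G := fun u =>
    nfW c d (u.1, u.2.1, u.2.2.1) * d ^ (u.2.2.2.1 : ℕ) * f ^ (u.2.2.2.2 : ℕ)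
  let ev : (Fin 4 × Fin 4 × Fin 4 × Fin 7 × Fin 3) × Option (Fin 7) → G := fun u =>
    match u.2 with
    | none => K u.1
    | some q => K u.1 * r * d ^ (q : ℕ)
  have hK : ∀ a ∈ KSet c d f, ∃ u, K u = a := by
    rintro _ ⟨x, i, j, ⟨⟨a, b, e⟩, rfl⟩, rfl⟩
    refine ⟨(a, b, e, ⟨i % 7, Nat.mod_lt _ (by norm_num)⟩, ⟨j % 3, Nat.mod_lt _ (by norm_num)⟩), ?_⟩
    show nfW c d (a, b, e) * d ^ (i % 7) * f ^ (j % 3) = _
    conv_rhs => rw [← Nat.div_add_mod i 7, ← Nat.div_add_mod j 3, pow_add, pow_add, pow_mul, pow_mul,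
      h.d7, h.f3, one_pow, one_pow, one_mul, one_mul]
  have hsurj : Function.Surjective ev := by
    intro g
    rcases hall g with hg | ⟨a, ha, q, rfl⟩
    · obtain ⟨u, hu⟩ := hK g hg
      exact ⟨(u, none), hu⟩
    · obtain ⟨u, rfl⟩ := hK a ha
      refine ⟨(u, some ⟨q % 7, Nat.mod_lt _ (by norm_num)⟩), ?_⟩
      show K u * r * d ^ (q % 7) = _
      conv_rhs => rw [← Nat.div_add_mod q 7, pow_add, pow_mul, h.d7, one_pow, one_mul]
  refine le_trans (Nat.card_le_card_of_surjective ev hsurj) (le_of_eq ?_)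
  simp [Nat.card_eq_fintype_card]

end MRel

end Cfsg.Agent.HSRecog
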