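import Cfsg.Agent.HSRecog.Model
import Cfsg.Agent.HSRecog.MBound
import Cfsg.Agent.DCoset.PermModel
import Cfsg.Agent.DCoset.Emit

/-!
The model from a table, its order, and the homomorphism to any finite group with the relations.
-/

set_option autoImplicit false
set_option maxRecDepth 100000
set_option linter.all false

namespace Cfsg.Agent.HSRecog

open Cfsg.Agent.DCoset (Tab QModel Acts pk16)
open Equiv

/-- The action of the model on the points. -/
def pr : MM →* Perm (Fin 64) := MM.subtype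

/-- The base. -/
def bpt (l : ℕ) : Fin 64 := [0, 16, 4].getD l 0

theorem rel_Q : MRel cQ dQ fQ rQ := by
  have h := rel_M
  constructor <;> apply Subtype.ext <;> simp only [e1, e2, cQ, dQ, fQ, rQ, Subgroup.coe_mul, SubgroupClass.coe_pow,
    Subgroup.coe_inv, Subgroup.coe_one]
  exacts [h.c4, h.cc, h.cc2, h.poly, h.d7, h.f3, h.fd, h.fc, h.rr, h.rc, h.re, h.rf, h.rd]

theorem card_MM_le : Nat.card MM ≤ 10752 := rel_Q.card_le closure_MM

/-- A table whose letters agree with the permutations. -/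
def actOK (M : Tab) : Prop :=
  ∀ g < 7, ∀ p : Fin 64, M.act g p < 64 ∧
    pr (lq g) ⟨M.act g p % 64, Nat.mod_lt _ (by norm_num)⟩ = p

theorem acts {T₀ : Tab} (hn : T₀.nL = 7) (hact : actOK T₀) (hlt : ∀ g p, T₀.act g p < 65536)
    (hbase : T₀.base = pk16 T₀.k fun l => (bpt l).val) : Acts pr T₀ lq bpt where
  small := by norm_num
  act_lt := hlt
  base_eq := hbase
  act_eq g hg p := by
    rw [hn] at hg
    obtain ⟨h1, h2⟩ := hact g hg p
    have e : pr (lq g) ⟨T₀.act g p, h1⟩ = p := by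
      simpa only [Nat.mod_eq_of_lt h1] using h2
    conv_rhs => rw [← e, Equiv.Perm.inv_def, Equiv.symm_apply_apply]

/-- A chain of a table shows that the order is at least 10752. -/
theorem card_MM_lt {T₀ : Tab} (A : Acts pr T₀ lq bpt) (K : QModel.Chain)
    (hK : ((List.range T₀.k).map K.size).prod = 10752)
    (hg : ∀ l a, l < T₀.k → a < K.nGen l → QModel.checkGen T₀ K l a = true)
    (hp : ∀ l m, l < T₀.k → m < K.size l → QModel.checkPt T₀ K l m = true) :
    5376 < Nat.card MM := by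
  by_contra hle
  let q' : ℕ → MM × Multiplicative (ZMod 2) := fun g => (lq g, 1)
  let ρ : MM × Multiplicative (ZMod 2) →* Perm (Fin 64) := pr.comp (MonoidHom.fst _ _)
  have A' : Acts ρ T₀ q' bpt := ⟨A.small, A.act_eq, A.act_lt, A.base_eq⟩
  have hc : Nat.card (MM × Multiplicative (ZMod 2)) ≤ 10752 := by
    rw [Nat.card_prod, Nat.card_congr Multiplicative.toAdd, Nat.card_zmod]; omega
  have := A'.faithful K hc hK hg hp (1, Multiplicative.ofAdd 1) (fun l _ => by simp [ρ])
  exact absurd (congrArg Prod.snd this) (by decide)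

/-- The homomorphism of the model to a finite group with the relations. -/
theorem exists_hom (hlow : 5376 < Nat.card MM) {G : Type*} [Group G] [Finite G] {c d f r : G}
    (h : MRel c d f r) : ∃ φ : MM →* G, φ cQ = c ∧ φ dQ = d ∧ φ fQ = f ∧ φ rQ = r := by
  let Z : Subgroup (G × MM) := Subgroup.closure {(c, cQ), (d, dQ), (f, fQ), (r, rQ)}
  let c' : Z := ⟨(c, cQ), Subgroup.subset_closure (by simp)⟩
  let d' : Z := ⟨(d, dQ), Subgroup.subset_closure (by simp)⟩
  let f' : Z := ⟨(f, fQ), Subgroup.subset_closure (by simp)⟩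
  let r' : Z := ⟨(r, rQ), Subgroup.subset_closure (by simp)⟩
  have hZ : MRel c' d' f' r' := by
    have q := rel_Q
    constructor <;> apply Subtype.ext <;> simp only [e1, e2, c', d', f', r', Subgroup.coe_mul,
      SubgroupClass.coe_pow, Subgroup.coe_inv, Subgroup.coe_one, Prod.mk_mul_mk, Prod.pow_mk, Prod.inv_mk,
      ← Prod.mk_one_one, Prod.mk.injEq]
    exacts [⟨h.c4, q.c4⟩, ⟨h.cc, q.cc⟩, ⟨h.cc2, q.cc2⟩, ⟨h.poly, q.poly⟩, ⟨h.d7, q.d7⟩, ⟨h.f3, q.f3⟩,
      ⟨h.fd, q.fd⟩, ⟨h.fc, q.fc⟩, ⟨h.rr, q.rr⟩, ⟨h.rc, q.rc⟩, ⟨h.re, q.re⟩, ⟨h.rf, q.rf⟩, ⟨h.rd, q.rd⟩]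
  have hgenZ : Subgroup.closure ({c', d', f', r'} : Set Z) = ⊤ := by
    apply Subgroup.map_injective Z.subtype_injective
    rw [MonoidHom.map_closure, ← MonoidHom.range_eq_map, Subgroup.range_subtype]
    show _ = Subgroup.closure {(c, cQ), (d, dQ), (f, fQ), (r, rQ)}
    congr 1
    rw [Set.image_insert_eq, Set.image_insert_eq, Set.image_insert_eq, Set.image_singleton]
    rfl
  let p : Z →* MM := (MonoidHom.snd G MM).comp Z.subtype
  have hp : Function.Surjective p := by
    rw [← MonoidHom.range_eq_top, eq_top_iff, ← closure_MM, Subgroup.closure_le]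
    rintro x (rfl | rfl | rfl | rfl)
    exacts [⟨c', rfl⟩, ⟨d', rfl⟩, ⟨f', rfl⟩, ⟨r', rfl⟩]
  have hle := hZ.card_le hgenZ
  obtain ⟨k, hk⟩ : Nat.card MM ∣ Nat.card Z := Subgroup.card_dvd_of_surjective p hp
  have hk1 : k = 1 := by
    have hpos : 0 < Nat.card Z := Nat.card_pos
    have hk0 : k ≠ 0 := fun e => by rw [e, mul_zero] at hk; omega
    by_contra hne
    have : Nat.card MM * 2 ≤ Nat.card MM * k := Nat.mul_le_mul_left _ (by omega)
    omega
  have hb : Function.Bijective p :=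
    (Nat.bijective_iff_surjective_and_card p).2 ⟨hp, by rw [hk, hk1, mul_one]⟩
  let e := MulEquiv.ofBijective p hb
  refine ⟨((MonoidHom.fst G MM).comp Z.subtype).comp e.symm.toMonoidHom, ?_, ?_, ?_, ?_⟩
  all_goals show ((e.symm _ : Z) : G × MM).1 = _
  · rw [show cQ = e c' from rfl, MulEquiv.symm_apply_apply]
  · rw [show dQ = e d' from rfl, MulEquiv.symm_apply_apply]
  · rw [show fQ = e f' from rfl, MulEquiv.symm_apply_apply]
  · rw [show rQ = e r' from rfl, MulEquiv.symm_apply_apply]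

end Cfsg.Agent.HSRecog
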