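import Cfsg.Agent.HSRecog.CModel
import Cfsg.Agent.DCoset.Cover

/-!
The relations make a rule table sound; the bound from a certificate.
-/

set_option autoImplicit false
set_option maxRecDepth 100000
set_option linter.all false

namespace Cfsg.Agent.HSRecog

open Cfsg.Agent.DCoset

/-- The number of a word. -/
def packL : List ℕ → ℕ
  | [] => 0
  | a :: l => a + 256 * packL l

/-- A packed word. -/
def wpack (l : List ℕ) : ℕ := packL l * 65536 + l.length

theorem valW_packL {M : Type*} [Monoid M] (lv : ℕ → M) :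
    ∀ l : List ℕ, (∀ a ∈ l, a < 256) → valW lv l.length (packL l) = (l.map lv).prod
  | [], _ => rfl
  | a :: l, h => by
    have ha : a < 256 := h a (List.mem_cons_self ..)
    rw [List.length_cons, valW, packL, List.map_cons, List.prod_cons, Nat.add_mul_mod_self_left,
      Nat.mod_eq_of_lt ha, Nat.add_mul_div_left _ _ (by norm_num : 0 < 256), Nat.div_eq_of_lt ha,
      Nat.zero_add, valW_packL lv l fun b hb => h b (List.mem_cons_of_mem _ hb)]

theorem val_wpack {M : Type*} [Monoid M] (lv : ℕ → M) (l : List ℕ) (hl : l.length < 65536)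
    (h : ∀ a ∈ l, a < 256) : val lv (wpack l) = (l.map lv).prod := by
  rw [val, wpack, Nat.mul_add_mod_self_right, Nat.mod_eq_of_lt hl, Nat.mul_comm,
    Nat.mul_add_div (by norm_num : 65536 > 0), Nat.div_eq_of_lt hl, Nat.add_zero, valW_packL lv l h]

/-- Words for generators of the subgroup normalised by `h`. -/
def uList : List (List ℕ) :=
  [[0], [1], [2, 0, 0, 3], [2, 2, 2, 6, 3, 3, 3], [4, 2, 0, 0, 3, 5], [4, 2, 2, 2, 6, 3, 3, 3, 5],
    [4], [5], [6]]

/-- Their images. -/
def vList : List (List ℕ) :=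
  [[1], [0], [2, 2, 2, 6, 3, 3, 3], [2, 0, 0, 3], [4, 2, 2, 2, 6, 3, 3, 3, 5], [4, 2, 0, 0, 3, 5],
    [4], [5], [6]]

/-- The word of `rw`. -/
def rwL : List ℕ := [6, 2, 0, 3, 2, 2, 0, 3, 3]

/-- Its inverse. -/
def rwiL : List ℕ := [2, 2, 1, 3, 3, 2, 1, 3, 6]

/-- The candidates for the closing element. -/
def bList (n : ℕ) : List ℕ :=
  [[], [6], [0, 0], [0, 0, 6],
    [0, 0, 2, 0, 0, 3, 2, 2, 0, 0, 3, 3, 3, 3, 4, 6, 2, 2],
    [0, 0, 2, 0, 0, 3, 2, 2, 0, 0, 3, 3, 3, 3, 3, 5, 6, 2, 2, 2],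
    [2, 0, 0, 3, 2, 2, 0, 0, 3, 3, 3, 3, 3, 5, 6, 2, 2, 2],
    [2, 0, 0, 3, 2, 2, 0, 0, 3, 3, 3, 3, 4, 6, 2, 2]].getD n []

/-- The words before the extra letters in the two relators. -/
def relList : List (List (List ℕ)) := [[rwL, rwL], [[3, 3], [3], [2]]]

/-- The tails. -/
def tlList (n : ℕ) : List (List ℕ) := [rwiL, bList n ++ [3, 3]]

/-- A letter in a group. -/
def lvG {G : Type*} [Group G] (c d f r : G) (g : ℕ) : G := [c, c⁻¹, d, d⁻¹, f, f⁻¹, r].getD g 1

/-- The value of the `n`-th candidate. -/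
def bEl {G : Type*} [Group G] (c d f r : G) (n : ℕ) : G := ((bList n).map (lvG c d f r)).prod

/-- The shape of the rules. -/
structure Shape (M : Tab) (L : Rules) (n : ℕ) : Prop where
  two : L.nT = 2
  inv : L.invT 0 = 0 ∧ L.invT 1 = 1
  mul : ∀ a < 2, ∀ b < 2, L.mulT a b = 0 ∨ L.mulT a b = (a + b) % 2 + 1
  nrule : L.nRule = 25
  nrel : L.nRel = 2
  rule : ∀ r < 25, M.okWord (L.rU r) = true ∧ M.okWord (L.rV r) = true ∧ L.rD r = L.rS r ∧
    ((L.rS r = 0 ∧ L.rU r = L.rV r) ∨
      (7 ≤ r ∧ r < 16 ∧ L.rS r = 1 ∧ L.rU r = wpack (uList.getD (r - 7) []) ∧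
        L.rV r = wpack (vList.getD (r - 7) [])))
  rel : ∀ r < 2, L.relHd r = 1 ∧ M.okWord (L.relTl r) = true ∧ L.relTl r = wpack ((tlList n).getD r []) ∧
    L.relLen r = (relList.getD r []).length ∧ ∀ m < L.relLen r,
      L.relT r m = 1 ∧ M.okWord (L.relW r m) = true ∧ L.relW r m = wpack ((relList.getD r []).getD m [])

variable {H : Type*} [Group H] {c d f r h : H}

/-- The letter of a state. -/
def tFun (h : H) (τ : ℕ) : H := if τ = 1 then h else 1

theorem HRel.swap (hR : HRel c d f r h) {a b : H} (e : h * a * h = b) : h * b = a * h := by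
  rw [← e, ← mul_assoc, ← mul_assoc, hR.hh, one_mul]

theorem HRel.rules (hR : HRel c d f r h) : ∀ i, i < 9 →
    h * ((vList.getD i []).map (lvG c d f r)).prod = ((uList.getD i []).map (lvG c d f r)).prod * h := by
  have hc : h * c * h = c⁻¹ := hR.hc
  have hci : h * c⁻¹ * h = c := by
    rw [← hc]
    calc h * (h * c * h) * h = h * h * c * (h * h) := by group
      _ = c := by rw [hR.hh, one_mul, mul_one]
  have hfi : h * f⁻¹ * h = f⁻¹ := by
    conv_rhs => rw [← hR.hf]
    rw [mul_inv_rev, mul_inv_rev, inv_eq_of_mul_eq_one_right hR.hh, mul_assoc]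
  have hv : h * (d * c * c * d⁻¹) * h = d * d * d * r * d⁻¹ * d⁻¹ * d⁻¹ := by
    have := hR.hv
    simp only [e1, a1] at this
    rw [← this]; group
  have hv' : h * (d * d * d * r * d⁻¹ * d⁻¹ * d⁻¹) * h = d * c * c * d⁻¹ := by
    rw [← hv]
    calc _ = h * h * (d * c * c * d⁻¹) * (h * h) := by group
      _ = _ := by rw [hR.hh, one_mul, mul_one]
  have conjf : ∀ {a b : H}, h * a * h = b → h * (f * a * f⁻¹) * h = f * b * f⁻¹ := fun {a b} e => by
    calc h * (f * a * f⁻¹) * h = h * f * (h * h) * a * (h * h) * f⁻¹ * h := by rw [hR.hh]; group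
      _ = (h * f * h) * (h * a * h) * (h * f⁻¹ * h) := by group
      _ = _ := by rw [hR.hf, e, hfi]
  intro i hi
  interval_cases i <;>
    simp only [uList, vList, lvG, List.getD_cons_zero, List.getD_cons_succ, List.map_cons, List.map_nil,
      List.prod_cons, List.prod_nil, mul_one]
  · exact hR.swap hc
  · exact hR.swap hci
  · simpa only [mul_assoc] using hR.swap hv
  · simpa only [mul_assoc] using hR.swap hv'
  · simpa only [mul_assoc] using hR.swap (conjf hv)
  · simpa only [mul_assoc] using hR.swap (conjf hv')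
  · exact hR.swap hR.hf
  · exact hR.swap hfi
  · exact hR.swap hR.hr

variable {Φ : MM →* H}

theorem sound_of_rel {P : QModel MM} {L : Rules} {n : ℕ} (hq : P.q = lq) (hs : Shape P.toTab L n)
    (hR : HRel c d f r h) (hΦ : Φ cQ = c ∧ Φ dQ = d ∧ Φ fQ = f ∧ Φ rQ = r)
    (hloop : loopEl d h = h * bEl c d f r n) : L.Sound (P.toModel Φ) (tFun h) := by
  obtain ⟨hc, hd, hf, hr⟩ := hΦ
  have hlv : ∀ g, (P.toModel Φ).lv g = lvG c d f r g := fun g => by
    show Φ (P.q g) = _
    rw [hq]
    rcases g with _ | _ | _ | _ | _ | _ | _ | g <;> simp [lq, lvG, hc, hd, hf, hr]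
  have hval : ∀ l : List ℕ, l.length < 65536 → (∀ a ∈ l, a < 256) →
      val (P.toModel Φ).lv (wpack l) = (l.map (lvG c d f r)).prod := fun l h1 h2 => by
    rw [val_wpack _ _ h1 h2]
    congr 2
    exact funext hlv
  constructor
  · rfl
  · intro τ hτ
    rw [hs.two] at hτ ⊢
    interval_cases τ
    · exact ⟨by rw [hs.inv.1]; norm_num, by rw [hs.inv.1]; simp [tFun]⟩
    · exact ⟨by rw [hs.inv.2]; norm_num, by rw [hs.inv.2]; exact hR.hh⟩
  · intro σ τ hσ hτ hne
    rw [hs.two] at hσ hτ ⊢
    have e := (hs.mul σ hσ τ hτ).resolve_left hne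
    refine ⟨by omega, ?_⟩
    rw [e]
    interval_cases σ <;> interval_cases τ <;> simp [tFun, hR.hh]
  · intro i hi
    rw [hs.nrule] at hi
    obtain ⟨hU, hV, hD, hcase⟩ := hs.rule i hi
    rw [hs.two, hD]
    rcases hcase with ⟨hS, hUV⟩ | ⟨h7, h16, hS, h1, h2⟩
    · rw [hS, hUV]
      exact ⟨by norm_num, by norm_num, hUV ▸ hU, hV, by simp [tFun]⟩
    · rw [hS, h1, h2]
      refine ⟨by norm_num, by norm_num, h1 ▸ hU, h2 ▸ hV, ?_⟩
      rw [hval _ (by interval_cases i <;> decide) (by interval_cases i <;> decide),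
        hval _ (by interval_cases i <;> decide) (by interval_cases i <;> decide)]
      exact hR.rules (i - 7) (by omega)
  · intro i hi
    rw [hs.nrel] at hi
    obtain ⟨hhd, htl, hv, hlen, hm⟩ := hs.rel i hi
    rw [hs.two, hhd]
    refine ⟨by norm_num, htl, fun m hm' => ⟨by rw [(hm m hm').1]; norm_num, (hm m hm').2.1⟩, ?_⟩
    rw [show ((List.range (L.relLen i)).map fun m =>
        val (P.toModel Φ).lv (L.relW i m) * tFun h (L.relT i m)) =
        (List.range (L.relLen i)).map fun m =>
          val (P.toModel Φ).lv (wpack ((relList.getD i []).getD m [])) * h from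
      List.map_congr_left fun m hm' => by
        obtain ⟨e1, -, e3⟩ := hm m (List.mem_range.1 hm')
        rw [e1, e3]
        rfl, hlen, hv]
    show h * _ = _
    interval_cases i
    · simp only [relList, tlList, List.getD_cons_zero, List.length_cons, List.length_nil, List.range_succ,
        List.range_zero, List.nil_append, List.cons_append, List.map_cons, List.map_nil, List.prod_cons,
        List.prod_nil, List.getD_cons_succ, mul_one]
      rw [hval rwL (by decide) (by decide), hval rwiL (by decide) (by decide)]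
      have e := hR.braid
      simp only [rw', e1, e2] at e
      simp only [rwL, rwiL, lvG, List.map_cons, List.map_nil, List.prod_cons, List.prod_nil,
        List.getD_cons_zero, List.getD_cons_succ, mul_one]
      have hri : r⁻¹ = r := inv_eq_of_mul_eq_one_right hR.rr
      have key : h * (r * (d * c * d⁻¹ * (d * d * c * d⁻¹ * d⁻¹))) * h *
          (r * (d * c * d⁻¹ * (d * d * c * d⁻¹ * d⁻¹))) * h =
          (r * (d * c * d⁻¹ * (d * d * c * d⁻¹ * d⁻¹)))⁻¹ := by
        apply eq_inv_of_mul_eq_one_left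
        rw [← e]; simp only [pow_succ, pow_zero, one_mul, mul_assoc]
      simpa only [mul_inv_rev, inv_inv, hri, mul_assoc] using key
    · simp only [relList, tlList, List.getD_cons_zero, List.getD_cons_succ, List.length_cons,
        List.length_nil, List.range_succ, List.range_zero, List.nil_append, List.cons_append, List.map_cons,
        List.map_nil, List.prod_cons, List.prod_nil, mul_one]
      rw [hval [3, 3] (by decide) (by decide), hval [3] (by decide) (by decide),
        hval [2] (by decide) (by decide)]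
      have hb : ∀ a ∈ bList n ++ [3, 3], a < 256 := by
        rcases n with _ | _ | _ | _ | _ | _ | _ | _ | n <;> simp [bList]
      have hbl : (bList n ++ [3, 3]).length < 65536 := by
        rcases n with _ | _ | _ | _ | _ | _ | _ | _ | n <;> simp [bList]
      rw [hval _ hbl hb, List.map_append, List.prod_append]
      show _ = bEl c d f r n * _
      rw [show bEl c d f r n = h * loopEl d h by rw [hloop, ← mul_assoc, hR.hh, one_mul]]
      simp only [lvG, loopEl, List.map_cons, List.map_nil, List.prod_cons, List.prod_nil,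
        List.getD_cons_zero, List.getD_cons_succ, mul_one, mul_inv_rev, inv_eq_of_mul_eq_one_right hR.hh]
      group

theorem lq_gen : Subgroup.closure {x | ∃ g, g < 7 ∧ x = lq g} = ⊤ := by
  rw [eq_top_iff, ← closure_MM]
  refine Subgroup.closure_mono ?_
  rintro x (rfl | rfl | rfl | rfl)
  exacts [⟨0, by norm_num, rfl⟩, ⟨2, by norm_num, rfl⟩, ⟨4, by norm_num, rfl⟩, ⟨6, by norm_num, rfl⟩]

/-- The certificate bounds the order of every group generated with the relations. -/
theorem bound_of_cert {P : QModel MM} {L : Rules} {n : ℕ} {D : Steps} {K : Cover} {N : ℕ}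
    (hlow : 5376 < Nat.card MM) (hq : P.q = lq) (hn : P.nL = 7) (hs : Shape P.toTab L n)
    (hok : ∀ s, s < D.len → Steps.check D L P.toTab s = true)
    (hsrc : ∀ i, 1 ≤ i → i < D.nNode → D.nodeSrc i < i)
    (hV : K.Valid D L P.toTab 10752) (hsum : ((List.range K.nLive).map K.idx).sum = N)
    {H : Type*} [Group H] [Finite H] {c d f r h : H} (hR : HRel c d f r h)
    (hloop : loopEl d h = h * bEl c d f r n)
    (hg : Subgroup.closure (genSet c d f r h) = ⊤) :
    (Subgroup.closure ({c, d, f, r} : Set H)).index ≤ N ∧ Nat.card H ≤ 10752 * N := by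
  obtain ⟨Φ, hΦ⟩ := exists_hom hlow hR.toMRel
  have hrange : Φ.range = Subgroup.closure ({c, d, f, r} : Set H) := by
    rw [MonoidHom.range_eq_map, ← closure_MM, MonoidHom.map_closure, Set.image_insert_eq,
      Set.image_insert_eq, Set.image_insert_eq, Set.image_singleton, hΦ.1, hΦ.2.1, hΦ.2.2.1, hΦ.2.2.2]
  have hgen : Subgroup.closure {x | ∃ i, i < P.nL ∧ x = P.q i} = ⊤ := by rw [hn, hq]; exact lq_gen
  have hgenG : Subgroup.closure (Set.range Φ ∪ {x | ∃ τ, τ < L.nT ∧ x = tFun h τ}) = ⊤ := by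
    rw [eq_top_iff, ← hg]
    refine Subgroup.closure_mono ?_
    obtain ⟨hc, hd, hf, hr⟩ := hΦ
    rintro x (rfl | rfl | rfl | rfl | rfl)
    exacts [Or.inl ⟨_, hc⟩, Or.inl ⟨_, hd⟩, Or.inl ⟨_, hf⟩, Or.inl ⟨_, hr⟩,
      Or.inr ⟨1, by rw [hs.two]; norm_num, by simp [tFun]⟩]
  have hL := sound_of_rel hq hs hR hΦ hloop
  have hF := DCoset.Steps.holds (D := D) (Hs := Φ.range) hL (fun i _ => ⟨P.q i, rfl⟩) hsrc
    (by rw [hs.two]; norm_num) hok
  obtain ⟨-, hle⟩ := DCoset.Cover.index_le (C := K) (P := P) Φ (tFun h) card_MM_le hgen hgenG hL hV hF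
  rw [hsum, hrange] at hle
  refine ⟨hle, ?_⟩
  have h1 : Nat.card (Subgroup.closure ({c, d, f, r} : Set H)) ≤ 10752 := by
    rw [← hrange]
    exact (Nat.card_le_card_of_surjective _ (MonoidHom.rangeRestrict_surjective Φ)).trans card_MM_le
  rw [← Subgroup.card_mul_index (Subgroup.closure ({c, d, f, r} : Set H))]
  exact Nat.mul_le_mul h1 hle

end Cfsg.Agent.HSRecog
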