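import Mathlib

/-!
An element over the transposition outside a point stabiliser in a group with quotient `S₅`, centralising an element
of order three.
-/

set_option autoImplicit false
set_option maxRecDepth 100000
set_option linter.all false
set_option synthInstance.maxSize 20000
set_option synthInstance.maxHeartbeats 400000

namespace Cfsg.Agent.HSRecog

open Equiv Subgroup

/-- The quotient facts in `S₅`. -/
theorem perm_five : ∀ a : Perm (Fin 5), a ^ 3 = 1 → a ≠ 1 → ∀ b : Perm (Fin 5), b * b = 1 → b ≠ 1 →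
    b * a * b = a⁻¹ → ∀ w : Perm (Fin 5), w * w = 1 → w ≠ 1 → b * w = w * b → w ≠ b →
      a * w * a⁻¹ * w = w * (a * w * a⁻¹) → a * w * a⁻¹ ≠ w →
      ∃ τ : Perm (Fin 5), τ * τ = 1 ∧ τ ≠ 1 ∧ τ * a = a * τ ∧ τ * b = b * τ ∧ (τ * (b * w)) ^ 3 = 1 := by
  decide +kernel

variable {G : Type*} [Group G] [Finite G]

/-- An element over the further transposition that centralises `f`. -/
theorem exists_over {H R : Subgroup G} (hRH : R ≤ H) (hcR : Nat.card R = 64)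
    (π : ↥H →* Perm (Fin 5)) (hπ : Function.Surjective π) (hker : π.ker = R.subgroupOf H)
    {f r w : G} (hfH : f ∈ H) (hrH : r ∈ H) (hwH : w ∈ H) (f3 : f ^ 3 = 1) (hfR : f ∉ R)
    (hrr : r * r ∈ R) (hrR : r ∉ R) (hrf : r * f * r⁻¹ * f ∈ R) (hww : w * w ∈ R) (hwR : w ∉ R)
    (hrw : r * w * r⁻¹ * w⁻¹ ∈ R) (hne : w * r⁻¹ ∉ R)
    (hv4 : f * w * f⁻¹ * w * (f * w * f⁻¹)⁻¹ * w⁻¹ ∈ R) (hv4ne : f * w * f⁻¹ * w⁻¹ ∉ R) :
    ∃ h ∈ H, h ∉ R ∧ h * f * h⁻¹ = f ∧ h * h ∈ R ∧ h * r * h⁻¹ * r⁻¹ ∈ R ∧ (h * (r * w)) ^ 3 ∈ R := by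
  have hmem : ∀ (x : ↥H), (x : G) ∈ R ↔ π x = 1 := fun x => by
    rw [← MonoidHom.mem_ker, hker, mem_subgroupOf]
  let f' : ↥H := ⟨f, hfH⟩
  let r' : ↥H := ⟨r, hrH⟩
  let w' : ↥H := ⟨w, hwH⟩
  have r2 : π r' * π r' = 1 := by rw [← map_mul]; exact (hmem (r' * r')).1 hrr
  have w2 : π w' * π w' = 1 := by rw [← map_mul]; exact (hmem (w' * w')).1 hww
  have a3 : π f' ^ 3 = 1 := by rw [← map_pow, show f' ^ 3 = 1 from Subtype.ext f3, map_one]
  have bab : π r' * π f' * π r' = (π f')⁻¹ := by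
    have e := (hmem (r' * f' * r'⁻¹ * f')).1 hrf
    rw [map_mul, map_mul, map_mul, map_inv, inv_eq_of_mul_eq_one_right r2] at e
    exact eq_inv_of_mul_eq_one_left e
  have bw : π r' * π w' = π w' * π r' := by
    have e := (hmem (r' * w' * r'⁻¹ * w'⁻¹)).1 hrw
    rw [map_mul, map_mul, map_mul, map_inv, map_inv, mul_inv_eq_one, mul_inv_eq_iff_eq_mul] at e
    exact e
  have wb : π w' ≠ π r' := fun e => hne ((hmem (w' * r'⁻¹)).2 (by rw [map_mul, map_inv, e, mul_inv_cancel]))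
  have v4 : π f' * π w' * (π f')⁻¹ * π w' = π w' * (π f' * π w' * (π f')⁻¹) := by
    have e := (hmem (f' * w' * f'⁻¹ * w' * (f' * w' * f'⁻¹)⁻¹ * w'⁻¹)).1 hv4
    simp only [map_mul, map_inv] at e
    rw [mul_inv_eq_one, mul_inv_eq_iff_eq_mul] at e
    exact e
  have v4ne : π f' * π w' * (π f')⁻¹ ≠ π w' := fun e => hv4ne ((hmem (f' * w' * f'⁻¹ * w'⁻¹)).2 (by
    rw [map_mul, map_mul, map_mul, map_inv, map_inv, e, mul_inv_cancel]))
  obtain ⟨τ, τ2, τ1, τa, τb, τc⟩ := perm_five (π f') a3 (fun e => hfR ((hmem f').2 e)) (π r') r2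
    (fun e => hrR ((hmem r').2 e)) bab (π w') w2 (fun e => hwR ((hmem w').2 e)) bw wb v4 v4ne
  obtain ⟨h₀, rfl⟩ := hπ τ
  -- Sylow's theorem in `R⟨f⟩`
  have : Fact (Nat.Prime 3) := ⟨by norm_num⟩
  let K : Subgroup ↥H := (zpowers (π f')).comap π
  have hof : orderOf (π f') = 3 := orderOf_eq_prime a3 (fun e => hfR ((hmem f').2 e))
  have hcK : Nat.card K = 192 := by
    let ψ : ↥K →* ↥(zpowers (π f')) := (π.comp K.subtype).codRestrict _ fun x => x.2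
    have hψ : Function.Surjective ψ := fun ⟨y, hy⟩ => by
      obtain ⟨x, rfl⟩ := hπ y
      exact ⟨⟨x, hy⟩, rfl⟩
    have h1 := ψ.ker.card_mul_index
    rw [Subgroup.index_ker, MonoidHom.range_eq_top.2 hψ, Subgroup.card_top, Nat.card_zpowers, hof] at h1
    have e : Nat.card ψ.ker = 64 := by
      rw [← hcR]
      refine Nat.card_congr ⟨fun x => ⟨((x : ↥K) : ↥H).1, (hmem _).2 (congrArg Subtype.val x.2)⟩,
        fun x => ⟨⟨⟨x.1, hRH x.2⟩, ?_⟩, Subtype.ext ((hmem ⟨x.1, hRH x.2⟩).1 x.2)⟩, fun x => rfl, fun x => rfl⟩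
      show π _ ∈ zpowers (π f')
      rw [(hmem ⟨x.1, hRH x.2⟩).1 x.2]
      exact one_mem _
    omega
  have hfK : f' ∈ K := mem_zpowers _
  have hgK : h₀ * f' * h₀⁻¹ ∈ K := by
    show π _ ∈ zpowers (π f')
    rw [map_mul, map_mul, map_inv, τa, mul_inv_cancel_right]
    exact mem_zpowers _
  have o3 : ∀ (x : ↥K), x ^ 3 = 1 → x ≠ 1 → Nat.card (zpowers x) = 3 := fun x h1 h2 => by
    rw [Nat.card_zpowers, orderOf_eq_prime h1 h2]
  have f3' : f' ^ 3 = 1 := Subtype.ext f3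
  have hne1 : f' ≠ 1 := fun e => hfR (by rw [show f = ((f' : ↥H) : G) from rfl, e]; exact one_mem _)
  let a : ↥K := ⟨f', hfK⟩
  let b : ↥K := ⟨h₀ * f' * h₀⁻¹, hgK⟩
  have hA := o3 a (Subtype.ext f3') (fun e => hne1 (congrArg Subtype.val e))
  have hB := o3 b (Subtype.ext (by show (h₀ * f' * h₀⁻¹) ^ 3 = 1; rw [conj_pow, f3', mul_one, mul_inv_cancel]))
    (fun e => hne1 (conj_eq_one_iff.1 (congrArg Subtype.val e)))
  have sy : ∀ {x : ↥K}, Nat.card (zpowers x) = 3 → ∃ P : Sylow 3 ↥K, (P : Subgroup ↥K) = zpowers x :=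
    fun {x} hx => ⟨Sylow.ofCard (zpowers x) (by
      rw [hcK, hx, show (192 : ℕ) = 3 ^ 1 * 64 by norm_num, Nat.factorization_mul (by norm_num) (by norm_num),
        Nat.Prime.factorization_pow (by norm_num)]
      simp [show Nat.factorization 64 3 = 0 from Nat.factorization_eq_zero_of_not_dvd (by norm_num)]), rfl⟩
  obtain ⟨PA, hPA⟩ := sy hA
  obtain ⟨PB, hPB⟩ := sy hB
  obtain ⟨k, hk⟩ := MulAction.exists_smul_eq ↥K PB PA
  have hkb : k * b * k⁻¹ ∈ zpowers a := by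
    rw [← hPA, ← hk, Sylow.coe_subgroup_smul, hPB]
    exact ⟨b, mem_zpowers b, rfl⟩
  obtain ⟨n, hn⟩ := hkb
  obtain ⟨m, hm⟩ := mem_zpowers_iff.1 (show π (k : ↥H) ∈ zpowers (π f') from k.2)
  let h : ↥H := (k : ↥H) * h₀ * f' ^ (-m)
  have hπh : π h = π h₀ := by
    have c : Commute (π h₀) (π f') := τa
    simp only [h, map_mul, map_zpow, ← hm]
    rw [mul_assoc, (c.zpow_right (-m)).eq, ← mul_assoc, ← zpow_add, add_neg_cancel, zpow_zero, one_mul]
  have hconj : h * f' * h⁻¹ = f' ^ n := by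
    have e : (k : ↥H) * (h₀ * f' * h₀⁻¹) * (k : ↥H)⁻¹ = f' ^ n := (congrArg Subtype.val hn).symm
    rw [← e]; simp only [h]; group
  clear_value h
  have hn1 : f' ^ n = f' := by
    have e := congrArg π hconj
    rw [map_mul, map_mul, map_inv, hπh, τa, mul_inv_cancel_right] at e
    have e3 : π f' ^ (n - 1) = 1 := by rw [zpow_sub_one, ← map_zpow, ← e, mul_inv_cancel]
    rw [← orderOf_dvd_iff_zpow_eq_one, hof] at e3
    have : f' ^ (n - 1) = 1 := by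
      rw [← orderOf_dvd_iff_zpow_eq_one, orderOf_eq_prime f3' hne1]; exact e3
    rw [zpow_sub_one, mul_inv_eq_one] at this
    exact this
  refine ⟨h, h.2, fun e => τ1 (hπh ▸ (hmem h).1 e), congrArg Subtype.val (hconj.trans hn1),
    (hmem (h * h)).2 ?_, (hmem (h * r' * h⁻¹ * r'⁻¹)).2 ?_, (hmem ((h * (r' * w')) ^ 3)).2 ?_⟩
  · rw [map_mul, hπh, τ2]
  · rw [map_mul, map_mul, map_mul, map_inv, map_inv, hπh, τb, mul_inv_cancel_right, mul_inv_cancel]
  · rw [map_pow, map_mul, map_mul, hπh, τc]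

end Cfsg.Agent.HSRecog
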