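import Cfsg.Agent.HSRecog.Loc
import Cfsg.Agent.HSRecog.QuotFive
import Cfsg.Agent.HSRecog.HSide.Codes
import Cfsg.Agent.HSRecog.HSide.Five

/-!
The further involution of the centraliser: it is chosen over the transposition outside the point stabiliser and
normalised until the relations hold.
-/

set_option autoImplicit false
set_option maxRecDepth 100000
set_option maxHeartbeats 400000
set_option synthInstance.maxSize 20000
set_option synthInstance.maxHeartbeats 400000

namespace Cfsg.Agent.HSRecog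

open Subgroup Equiv

namespace HSide

variable {G : Type*} [Group G]

theorem stepG_lt (k m : ℕ) : stepG k m < 64 := Nat.mod_lt _ (by norm_num)

theorem foldl_step_lt : ∀ (l : List ℕ) {m : ℕ}, m < 64 → l.foldl (fun a k => stepG k a) m < 64
  | [], m, h => h
  | k :: l, m, _ => foldl_step_lt l (stepG_lt k m)

theorem mulT_lt {m : ℕ} (h : m < 64) (n : ℕ) : mulT m n < 64 := foldl_step_lt _ h

theorem ap_lt (P : List ℕ) (n : ℕ) : ap P n < 64 := by
  have key : ∀ (l : List ℕ) {a : ℕ}, a < 64 → l.foldl (fun a k => mulT a (P.getD k 0)) a < 64 := by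
    intro l
    induction l with
    | nil => intro a h; exact h
    | cons k l ih => intro a h; exact ih (mulT_lt h _)
  exact key _ (by norm_num)

theorem map_g5 {A : Type*} [Group A] (ψ : A →* G) (a b e u : A) (k : ℕ) :
    ψ (g5 a b e u k) = g5 (ψ a) (ψ b) (ψ e) (ψ u) k := by
  rcases k with _ | _ | _ | _ | _ | k <;> simp [g5, e1, e2, a1, map_mul, map_inv]

theorem map_rNF {A : Type*} [Group A] (ψ : A →* G) (a b e u : A) (n : ℕ) :
    ψ (rNF a b e u n) = rNF (ψ a) (ψ b) (ψ e) (ψ u) n := by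
  rw [rNF, rNF, map_list_prod, List.map_map]
  exact congrArg List.prod (List.map_congr_left fun k _ => map_g5 ψ a b e u k)

theorem rNF_zero (c d f r : G) : rNF c d f r 0 = 1 := rfl

theorem rNF_c (c d f r : G) {n : ℕ} (hn : n % 16 = 0) : rNF c d f r n = c ^ (n / 16) := by
  rw [rNF, dig, show n / 8 % 2 = 0 by omega, show n / 4 % 2 = 0 by omega, show n / 2 % 2 = 0 by omega,
    show n % 2 = 0 by omega]
  simp [g5, List.prod_replicate]

theorem g5_code (c d f r : G) : ∀ k < 5, g5 c d f r k = rNF c d f r (gn.getD k 0) := by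
  intro k hk
  interval_cases k <;> simp [g5, rNF, dig, gn]

theorem mrel_map {A : Type*} [Group A] (ψ : A →* G) {a b e u : A} (q : MRel a b e u) :
    MRel (ψ a) (ψ b) (ψ e) (ψ u) := by
  constructor <;> simp only [e1, e2, ← map_mul, ← map_inv, ← map_pow]
  exacts [(congrArg ψ q.c4).trans (map_one ψ), congrArg ψ q.cc, congrArg ψ q.cc2, congrArg ψ q.poly,
    (congrArg ψ q.d7).trans (map_one ψ), (congrArg ψ q.f3).trans (map_one ψ), congrArg ψ q.fd,
    congrArg ψ q.fc, (congrArg ψ q.rr).trans (map_one ψ), congrArg ψ q.rc, congrArg ψ q.re,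
    congrArg ψ q.rf, (congrArg ψ q.rd).trans (map_one ψ)]

theorem swapz {c x : G} (hx : x * c * x⁻¹ = c⁻¹) (j : ℤ) : c ^ j * x = x * (c ^ j)⁻¹ := by
  have h2 : x * (c ^ j)⁻¹ * x⁻¹ = c ^ j := by
    rw [show x * (c ^ j)⁻¹ * x⁻¹ = (x * c ^ j * x⁻¹)⁻¹ by group, ← conj_zpow, hx, inv_zpow, inv_inv]
  exact (mul_inv_eq_iff_eq_mul.1 h2).symm

theorem swapn {c x : G} (hx : x * c * x⁻¹ = c⁻¹) (n : ℕ) : c ^ n * x = x * (c ^ n)⁻¹ := by
  simpa only [zpow_natCast] using swapz hx (n : ℤ)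

/-- The normal subgroup of order 64 in codes. -/
structure Ctx (R : Subgroup G) (c d f r : G) : Prop where
  step : ∀ k < 5, ∀ m < 64, rNF c d f r m * g5 c d f r k = rNF c d f r (stepG k m)
  inj : ∀ m < 64, ∀ n < 64, rNF c d f r m = rNF c d f r n → m = n
  mem : ∀ x : G, x ∈ R ↔ ∃ n < 64, rNF c d f r n = x
  cF : ∀ k < 5, f * g5 c d f r k * f⁻¹ = rNF c d f r (fP.getD k 0)
  cR : ∀ k < 5, r * g5 c d f r k * r⁻¹ = rNF c d f r (rP.getD k 0)
  cS : ∀ k < 5, rw' c d r * g5 c d f r k * (rw' c d r)⁻¹ = rNF c d f r (sP.getD k 0)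

namespace Ctx

variable {R : Subgroup G} {c d f r : G} (C : Ctx R c d f r)
include C

theorem fold_mul : ∀ (l : List ℕ), (∀ k ∈ l, k < 5) → ∀ {m : ℕ}, m < 64 →
    rNF c d f r m * (l.map (g5 c d f r)).prod = rNF c d f r (l.foldl (fun a k => stepG k a) m)
  | [], _, m, _ => by simp
  | k :: l, hl, m, hm => by
    rw [List.map_cons, List.prod_cons, ← mul_assoc, C.step k (hl k List.mem_cons_self) m hm,
      fold_mul l (fun x hx => hl x (List.mem_cons_of_mem k hx)) (stepG_lt k m), List.foldl_cons]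

theorem mul {m : ℕ} (hm : m < 64) (n : ℕ) :
    rNF c d f r m * rNF c d f r n = rNF c d f r (mulT m n) :=
  C.fold_mul _ (fun _ hx => dig_lt hx) hm

theorem hom_eq (σ : G →* G) {P : List ℕ} (hP : ∀ k < 5, σ (g5 c d f r k) = rNF c d f r (P.getD k 0))
    (n : ℕ) : σ (rNF c d f r n) = rNF c d f r (ap P n) := by
  have key : ∀ (l : List ℕ), (∀ k ∈ l, k < 5) → ∀ {a : ℕ}, a < 64 →
      rNF c d f r a * σ (l.map (g5 c d f r)).prod =
        rNF c d f r (l.foldl (fun a k => mulT a (P.getD k 0)) a) := by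
    intro l
    induction l with
    | nil => intro _ a _; simp
    | cons k l ih =>
      intro hl a ha
      rw [List.map_cons, List.prod_cons, map_mul, hP k (hl k List.mem_cons_self), ← mul_assoc, C.mul ha,
        ih (fun x hx => hl x (List.mem_cons_of_mem k hx)) (mulT_lt ha _), List.foldl_cons]
  have := key (dig n) (fun _ hx => dig_lt hx) (a := 0) (by norm_num)
  rwa [rNF_zero, one_mul] at this

theorem mem_rNF {n : ℕ} (hn : n < 64) : rNF c d f r n ∈ R := (C.mem _).2 ⟨n, hn, rfl⟩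

theorem conjF (n : ℕ) : f * rNF c d f r n * f⁻¹ = rNF c d f r (ap fP n) :=
  C.hom_eq (MulAut.conj f).toMonoidHom (P := fP) C.cF n

theorem conjR (n : ℕ) : r * rNF c d f r n * r⁻¹ = rNF c d f r (ap rP n) :=
  C.hom_eq (MulAut.conj r).toMonoidHom (P := rP) C.cR n

theorem conjS (n : ℕ) : rw' c d r * rNF c d f r n * (rw' c d r)⁻¹ = rNF c d f r (ap sP n) :=
  C.hom_eq (MulAut.conj (rw' c d r)).toMonoidHom (P := sP) C.cS n

theorem c_central {x : G} (hx : x ∈ R) : c * x = x * c := by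
  obtain ⟨n, hn, rfl⟩ := (C.mem x).1 hx
  have e : ((List.range 64).all fun n => mulT 16 n == mulT n 16) = true := by decide +kernel
  have h16 : rNF c d f r 16 = c := by rw [rNF_c c d f r (by norm_num)]; simp
  have e1 := C.mul (show 16 < 64 by norm_num) n
  have e2 := C.mul hn 16
  rw [h16] at e1 e2
  rw [e1, e2]
  exact congrArg _ (by simpa using List.all_eq_true.1 e n (List.mem_range.2 hn))

/-- An element of `R` centralising `f` is a power of `c`. -/
theorem fix_f {x : G} (hx : x ∈ R) (hfx : f * x * f⁻¹ = x) : ∃ k < 4, x = c ^ k := by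
  obtain ⟨n, hn, rfl⟩ := (C.mem x).1 hx
  rw [C.conjF] at hfx
  have e := List.all_eq_true.1 fix_ok n (List.mem_range.2 hn)
  simp only [C.inj _ (ap_lt fP n) n hn hfx, beq_self_eq_true, Bool.not_true, Bool.false_or,
    beq_iff_eq] at e
  exact ⟨n / 16, by omega, rNF_c c d f r e⟩

end Ctx

variable [Finite G] {H R M : Subgroup G} {c d f r : G}

theorem exists_ctx (hlow : 5376 < Nat.card MM) (L : Loc H R M c d f r) :
    Ctx R c d f r ∧ ∀ φ : MM →* G, φ cQ = c → φ dQ = d → φ fQ = f → φ rQ = r →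
      (∀ n, φ (rNF cQ dQ fQ rQ n) = rNF c d f r n) := by
  have hmap : ∀ φ : MM →* G, φ cQ = c → φ dQ = d → φ fQ = f → φ rQ = r →
      ∀ n, φ (rNF cQ dQ fQ rQ n) = rNF c d f r n := fun φ hc hd hf hr n => by
    rw [map_rNF, hc, hd, hf, hr]
  refine ⟨?_, hmap⟩
  obtain ⟨φ, -, -, hc, hd, hf, hr⟩ := L.exists_emb hlow
  have hM : ∀ n, ((rNF cQ dQ fQ rQ n : MM) : Perm (Fin 64)) = rNF cM dM fM rM n := fun n =>
    map_rNF MM.subtype cQ dQ fQ rQ n
  have hMg : ∀ k, ((g5 cQ dQ fQ rQ k : MM) : Perm (Fin 64)) = g5 cM dM fM rM k := fun k =>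
    map_g5 MM.subtype cQ dQ fQ rQ k
  have hg : ∀ k, φ (g5 cQ dQ fQ rQ k) = g5 c d f r k := fun k => by rw [map_g5, hc, hd, hf, hr]
  have hψ := hmap φ hc hd hf hr
  have hrw : φ (rw' cQ dQ rQ) = rw' c d r := by
    simp only [rw', e1, e2, map_mul, map_inv, hc, hd, hr]
  have hrwM : ((rw' cQ dQ rQ : MM) : Perm (Fin 64)) = rw' cM dM rM := rfl
  have step : ∀ k < 5, ∀ m < 64, rNF c d f r m * g5 c d f r k = rNF c d f r (stepG k m) := by
    intro k hk m hm
    have e : rNF cQ dQ fQ rQ m * g5 cQ dQ fQ rQ k = rNF cQ dQ fQ rQ (stepG k m) :=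
      Subtype.ext (by rw [Subgroup.coe_mul, hM, hMg, hM]; exact step_M k hk m hm)
    rw [← hψ, ← hg, ← map_mul, e, hψ]
  have hconj : ∀ k < 5, f * g5 c d f r k * f⁻¹ = rNF c d f r (fP.getD k 0) ∧
      r * g5 c d f r k * r⁻¹ = rNF c d f r (rP.getD k 0) ∧
      rw' c d r * g5 c d f r k * (rw' c d r)⁻¹ = rNF c d f r (sP.getD k 0) := by
    intro k hk
    obtain ⟨p1, p2, p3⟩ := conj_M k hk
    refine ⟨?_, ?_, ?_⟩
    · have e : fQ * g5 cQ dQ fQ rQ k * fQ⁻¹ = rNF cQ dQ fQ rQ (fP.getD k 0) :=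
        Subtype.ext (by rw [Subgroup.coe_mul, Subgroup.coe_mul, Subgroup.coe_inv, hMg, hM]; exact p1)
      rw [← hψ, ← e, map_mul, map_mul, map_inv, hg, hf]
    · have e : rQ * g5 cQ dQ fQ rQ k * rQ⁻¹ = rNF cQ dQ fQ rQ (rP.getD k 0) :=
        Subtype.ext (by rw [Subgroup.coe_mul, Subgroup.coe_mul, Subgroup.coe_inv, hMg, hM]; exact p2)
      rw [← hψ, ← e, map_mul, map_mul, map_inv, hg, hr]
    · have e : rw' cQ dQ rQ * g5 cQ dQ fQ rQ k * (rw' cQ dQ rQ)⁻¹ = rNF cQ dQ fQ rQ (sP.getD k 0) :=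
        Subtype.ext (by rw [Subgroup.coe_mul, Subgroup.coe_mul, Subgroup.coe_inv, hMg, hM, hrwM]; exact p3)
      rw [← hψ, ← e, map_mul, map_mul, map_inv, hg, hrw]
  -- the codes exhaust `R`
  have hmul : ∀ (l : List ℕ), (∀ k ∈ l, k < 5) → ∀ m < 64, ∃ n < 64,
      rNF c d f r m * (l.map (g5 c d f r)).prod = rNF c d f r n := by
    intro l
    induction l with
    | nil => intro _ m hm; exact ⟨m, hm, by simp⟩
    | cons k l ih =>
      intro hl m hm
      obtain ⟨n, hn, e⟩ := ih (fun x hx => hl x (List.mem_cons_of_mem k hx)) _ (stepG_lt k m)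
      exact ⟨n, hn, by rw [List.map_cons, List.prod_cons, ← mul_assoc,
        step k (hl k List.mem_cons_self) m hm, e]⟩
  have hle : ∀ x ∈ R, ∃ n < 64, rNF c d f r n = x := by
    intro x hx
    rw [L.R_eq] at hx
    have hx' : x ∈ Submonoid.closure (rSet c d f r) := by
      rw [← Subgroup.closure_toSubmonoid_of_finite]; exact hx
    clear hx
    induction hx' using Submonoid.closure_induction_right with
    | one => exact ⟨0, by norm_num, rNF_zero c d f r⟩
    | mul_right a _ y hy ih =>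
      obtain ⟨m, hm, rfl⟩ := ih
      obtain ⟨k, hk, rfl⟩ : ∃ k < 5, g5 c d f r k = y := by
        simp only [rSet, Set.mem_insert_iff, Set.mem_singleton_iff] at hy
        rcases hy with rfl | rfl | rfl | rfl | rfl
        exacts [⟨0, by norm_num, rfl⟩, ⟨1, by norm_num, rfl⟩, ⟨2, by norm_num, rfl⟩,
          ⟨3, by norm_num, rfl⟩, ⟨4, by norm_num, rfl⟩]
      exact ⟨_, stepG_lt k m, (step k hk m hm).symm⟩
  have hin : ∀ n, rNF c d f r n ∈ R := fun n => by
    rw [L.R_eq]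
    refine list_prod_mem fun x hx => ?_
    obtain ⟨k, hk, rfl⟩ := List.mem_map.1 hx
    have := dig_lt hk
    refine subset_closure ?_
    interval_cases k <;> simp [g5, rSet]
  have hbij : Function.Bijective fun n : Fin 64 => (⟨rNF c d f r n, hin n⟩ : ↥R) := by
    refine (Nat.bijective_iff_surjective_and_card _).2 ⟨fun y => ?_, by rw [Nat.card_fin, L.card_R]⟩
    obtain ⟨n, hn, e⟩ := hle y.1 y.2
    exact ⟨⟨n, hn⟩, Subtype.ext e⟩
  exact ⟨step, fun m hm n hn e => congrArg Fin.val (hbij.1 (a₁ := ⟨m, hm⟩) (a₂ := ⟨n, hn⟩) (Subtype.ext e)),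
    fun x => ⟨hle x, fun ⟨n, _, e⟩ => e ▸ hin n⟩, fun k hk => (hconj k hk).1, fun k hk => (hconj k hk).2.1,
    fun k hk => (hconj k hk).2.2⟩

/-- The properties of the element before it is normalised. -/
structure Over (H R M : Subgroup G) (c d f r h : G) : Prop where
  mem : h ∈ H
  nmem : h ∉ M
  hf : h * f * h⁻¹ = f
  sq : h * h ∈ R
  comm : h * r * h⁻¹ * r⁻¹ ∈ R
  braid : (h * rw' c d r) ^ 3 ∈ R

omit [Finite G] in
theorem t_comm (L : Loc H R M c d f r) {x : G} (hx : x ∈ H) : c * c * x = x * (c * c) := by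
  rw [L.hH] at hx
  exact mem_centralizer_iff.1 hx _ (Set.mem_singleton _)

omit [Finite G] in
theorem conj_R (L : Loc H R M c d f r) {h x : G} (hh : h ∈ H) (hx : x ∈ R) : h * x * h⁻¹ ∈ R :=
  (mem_normalizer_iff.1 (L.normal_R hh) x).1 hx

/-- The two possibilities for the action on `R`. -/
theorem dichotomy (hlow : 5376 < Nat.card MM) (L : Loc H R M c d f r) {h : G}
    (O : Over H R M c d f r h) :
    h * c * h⁻¹ = c⁻¹ ∧ ((∀ n, h * rNF c d f r n * h⁻¹ = rNF c d f r (ap [48, 2, 1, 8, 4] n)) ∨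
      h * (e1 c d * e1 c d) * h⁻¹ = rNF c d f r 42) := by
  obtain ⟨C, -⟩ := exists_ctx hlow L
  have hfi : f * h = h * f := by
    have := O.hf
    rw [mul_inv_eq_iff_eq_mul] at this
    exact this.symm
  have cfix : ∀ x : G, f * x * f⁻¹ = x → f * (h * x * h⁻¹) * f⁻¹ = h * x * h⁻¹ := fun x e => by
    calc f * (h * x * h⁻¹) * f⁻¹ = f * h * x * (f * h)⁻¹ := by group
      _ = h * (f * x * f⁻¹) * h⁻¹ := by rw [hfi]; group
      _ = _ := by rw [e]
  have hsq : ∀ x ∈ R, h * h * x * (h * h)⁻¹ = x := by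
    have e : f * (h * h) * f⁻¹ = h * h := by
      rw [← mul_assoc, hfi, mul_assoc h f h, hfi]; group
    obtain ⟨k, -, hk⟩ := C.fix_f O.sq e
    intro x hx
    rw [hk, (Commute.pow_left (show Commute c x from C.c_central hx) k).eq, mul_inv_cancel_right]
  obtain ⟨j, -, hj⟩ := C.fix_f O.comm (by
    have er : r * f * r = f⁻¹ := L.rel.rf
    have eri : r⁻¹ = r := inv_eq_of_mul_eq_one_right L.rel.rr
    have e1 : r * f = f⁻¹ * r := by
      rw [← er, mul_assoc (r * f), L.rel.rr, mul_one]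
    have e2 : f * r = r * f⁻¹ := by
      rw [← er, ← mul_assoc, ← mul_assoc, L.rel.rr, one_mul]
    have hfi' : f⁻¹ * h = h * f⁻¹ := by
      rw [inv_mul_eq_iff_eq_mul, ← mul_assoc, hfi, mul_inv_cancel_right]
    have hfhi : f⁻¹ * h⁻¹ = h⁻¹ * f⁻¹ := by rw [← mul_inv_rev, ← mul_inv_rev, hfi]
    calc f * (h * r * h⁻¹ * r⁻¹) * f⁻¹ = (f * h) * r * h⁻¹ * (r * f⁻¹) := by rw [eri]; group
      _ = h * (f * r) * h⁻¹ * (f * r) := by rw [hfi, ← e2]; group
      _ = h * r * (f⁻¹ * h⁻¹) * (f * r) := by rw [e2]; group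
      _ = h * r * h⁻¹ * r⁻¹ := by rw [hfhi, eri]; group)
  -- the images of the generators
  have hcR : c ∈ R := by
    rw [L.R_eq]; exact subset_closure (by simp [rSet])
  have h16 : rNF c d f r 16 = c := by rw [rNF_c c d f r (by norm_num)]; simp
  obtain ⟨E, hE4, hE⟩ := C.fix_f (conj_R L O.mem hcR) (cfix c (by rw [L.rel.fc]))
  have hvR : e1 c d * e1 c d ∈ R := by
    rw [L.R_eq]; exact subset_closure (by simp [rSet])
  have haR : a1 d r ∈ R := by
    rw [L.R_eq]; exact subset_closure (by simp [rSet])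
  obtain ⟨X, hX, hXe⟩ := (C.mem _).1 (conj_R L O.mem hvR)
  obtain ⟨Y, hY, hYe⟩ := (C.mem _).1 (conj_R L O.mem haR)
  have hE' : h * c * h⁻¹ = rNF c d f r (16 * E) := by
    rw [rNF_c c d f r (by omega), Nat.mul_div_cancel_left _ (by norm_num)]; exact hE
  set P := cP (16 * E) X Y with hPdef
  have hσ : ∀ k < 5, (MulAut.conj h).toMonoidHom (g5 c d f r k) = rNF c d f r (P.getD k 0) := by
    have v2 : e2 c d * e2 c d = f * (e1 c d * e1 c d) * f⁻¹ := by
      have := C.cF 1 (by norm_num)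
      rw [show fP.getD 1 0 = gn.getD 2 0 from rfl, ← g5_code c d f r 2 (by norm_num)] at this
      exact this.symm
    have tr : ∀ {x : G} {n : ℕ}, rNF c d f r n = h * x * h⁻¹ →
        h * (f * x * f⁻¹) * h⁻¹ = rNF c d f r (ap fP n) := fun {x n} e => by
      calc h * (f * x * f⁻¹) * h⁻¹ = h * f * x * (h * f)⁻¹ := by group
        _ = f * (h * x * h⁻¹) * f⁻¹ := by rw [← hfi]; group
        _ = _ := by rw [← e, C.conjF]
    intro k hk
    show h * g5 c d f r k * h⁻¹ = _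
    interval_cases k
    · exact hE'
    · exact hXe.symm
    · show h * (e2 c d * e2 c d) * h⁻¹ = _
      rw [v2]; exact tr hXe
    · exact hYe.symm
    · exact tr hYe
  have hα : ∀ n, h * rNF c d f r n * h⁻¹ = rNF c d f r (ap P n) := fun n =>
    C.hom_eq (MulAut.conj h).toMonoidHom hσ n
  have gn_lt : ∀ g ∈ gn, g < 64 := by decide
  -- the conditions
  have cF' : ∀ n, ap P (ap fP n) = ap fP (ap P n) := fun n => C.inj _ (ap_lt _ _) _ (ap_lt _ _) (by
    rw [← hα, ← C.conjF, ← C.conjF, ← hα]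
    calc h * (f * rNF c d f r n * f⁻¹) * h⁻¹ = h * f * rNF c d f r n * (h * f)⁻¹ := by group
      _ = _ := by rw [← hfi]; group)
  have cR' : ∀ n < 64, ap P (ap rP n) = ap rP (ap P n) := fun n hn => C.inj _ (ap_lt _ _) _ (ap_lt _ _) (by
    rw [← hα, ← C.conjR, ← C.conjR, ← hα]
    have e : h * r = c ^ j * r * h := by rw [← hj]; group
    have hz : Commute (c ^ j) (r * (h * rNF c d f r n * h⁻¹) * r⁻¹) := by
      refine Commute.pow_left (C.c_central ?_) j
      rw [hα n, C.conjR]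
      exact C.mem_rNF (ap_lt _ _)
    calc h * (r * rNF c d f r n * r⁻¹) * h⁻¹ = h * r * rNF c d f r n * (h * r)⁻¹ := by group
      _ = c ^ j * (r * (h * rNF c d f r n * h⁻¹) * r⁻¹) * (c ^ j)⁻¹ := by rw [e]; group
      _ = _ := by rw [hz.eq, mul_inv_cancel_right])
  have cA : ∀ n < 64, ap P (ap P n) = n := fun n hn => C.inj _ (ap_lt _ _) _ hn (by
    rw [← hα, ← hα]
    conv_rhs => rw [← hsq _ (C.mem_rNF hn)]
    group)
  have invol : ∀ {x : G} {n : ℕ}, x * x = 1 → n < 64 → rNF c d f r n = h * x * h⁻¹ → mulT n n = 0 := by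
    intro x n hx hn e
    refine C.inj _ (mulT_lt hn n) 0 (by norm_num) ?_
    rw [← C.mul hn, e, rNF_zero]
    calc h * x * h⁻¹ * (h * x * h⁻¹) = h * (x * x) * h⁻¹ := by group
      _ = 1 := by rw [hx, mul_one, mul_inv_cancel]
  have sq_code : ∀ k < 5, mulT (gn.getD k 0) (gn.getD k 0) = 0 → g5 c d f r k * g5 c d f r k = 1 := by
    intro k hk e
    rw [g5_code c d f r k hk, C.mul (by interval_cases k <;> decide), e, rNF_zero]
  have hXX : mulT X X = 0 := invol (sq_code 1 (by norm_num) (by decide +kernel)) hX hXe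
  have hYY : mulT Y Y = 0 := invol (sq_code 3 (by norm_num) (by decide +kernel)) hY hYe
  have hX8 : ap P 8 = X := C.inj _ (ap_lt _ _) X hX (by
    rw [← hα, hXe, show rNF c d f r 8 = e1 c d * e1 c d from
      (g5_code c d f r 1 (by norm_num)).symm])
  have hRF : ap rP (ap fP X) = X := by
    rw [← hX8, ← cF', ← cR' _ (ap_lt _ _), show ap rP (ap fP 8) = 8 by decide +kernel]
  obtain ⟨U, hU, hUe⟩ := (C.mem _).1 O.braid
  have cCube : ∀ n, mulT U n = mulT (cube P n) U := fun n => C.inj _ (mulT_lt hU n) _ (mulT_lt (ap_lt _ _) U) (by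
    rw [← C.mul hU, cube, ← C.mul (ap_lt _ _), ← hα, ← C.conjS, ← hα, ← C.conjS, ← hα, ← C.conjS, hUe]
    simp only [pow_succ, pow_zero, one_mul, mul_inv_rev, mul_assoc]
    group)
  have hcand : candB (16 * E) X Y = true := by
    simp only [candB, Bool.and_eq_true, beq_iff_eq, List.all_eq_true, List.any_eq_true, List.mem_range]
    exact ⟨⟨⟨⟨⟨⟨hXX, hRF⟩, hYY⟩, fun g hg => cA g (gn_lt g hg)⟩, fun g hg => cR' g (gn_lt g hg)⟩,
      fun g _ => cF' g⟩, U, hU, fun g _ => cCube g⟩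
  have hE16 : 16 * E ∈ [16, 48] := by
    have hc4 := L.rel.c4
    have hne : c * c ≠ 1 := fun e => by
      have := L.order_t
      rw [e, orderOf_one] at this
      exact absurd this (by norm_num)
    have key : ∀ k, h * c * h⁻¹ = c ^ k → c = h⁻¹ * c ^ k * h := fun k e => by rw [← e]; group
    interval_cases E
    · exact absurd (by rw [key 0 hE]; simp) hne
    · simp
    · refine absurd ?_ hne
      have e := key 2 hE
      rw [pow_two, mul_assoc, t_comm L O.mem, inv_mul_cancel_left] at e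
      rw [← e]
      exact (mul_eq_left.1 e.symm)
    · simp
  have hall := cand_all
  simp only [List.all_eq_true, List.mem_range] at hall
  have := hall _ hE16 X hX Y hY
  rw [hcand, Bool.not_true, Bool.false_or, Bool.and_eq_true, Bool.or_eq_true, beq_iff_eq, beq_iff_eq,
    beq_iff_eq, ← hPdef] at this
  obtain ⟨hE48, hP⟩ := this
  refine ⟨?_, ?_⟩
  · rw [hE', hE48, rNF_c c d f r (by norm_num)]
    exact (inv_eq_of_mul_eq_one_right (by rw [← pow_succ']; exact L.rel.c4)).symm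
  · rcases hP with hP | hP
    · exact Or.inl fun n => hP ▸ hα n
    · refine Or.inr ?_
      rw [← hXe]
      have := congrArg (fun P : List ℕ => P.getD 1 0) hP
      simp only [hPdef, cP, List.getD_cons_succ, List.getD_cons_zero] at this
      rw [this]

/-- The second case changes the generator `r` by the central involution. -/
theorem change_r (hlow : 5376 < Nat.card MM) (L : Loc H R M c d f r) {h : G}
    (O : Over H R M c d f r h) :
    Loc H R M c d f (r * (c * c)) ∧ Over H R M c d f (r * (c * c)) h ∧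
      a1 d (r * (c * c)) = rNF c d f r 42 := by
  obtain ⟨C, hmap⟩ := exists_ctx hlow L
  obtain ⟨φ, -, -, hc, hd, hf, hr⟩ := L.exists_emb hlow
  have hψ := hmap φ hc hd hf hr
  obtain ⟨hrel, ha, ha'⟩ := prime_M
  have hrelQ : MRel cQ dQ fQ (rQ * (cQ * cQ)) := by
    constructor <;> apply Subtype.ext
    exacts [hrel.c4, hrel.cc, hrel.cc2, hrel.poly, hrel.d7, hrel.f3, hrel.fd, hrel.fc, hrel.rr, hrel.rc,
      hrel.re, hrel.rf, hrel.rd]
  have hrel' : MRel c d f (r * (c * c)) := by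
    have := mrel_map φ hrelQ
    rwa [map_mul, map_mul, hc, hd, hf, hr] at this
  have hM : ∀ n, ((rNF cQ dQ fQ rQ n : MM) : Perm (Fin 64)) = rNF cM dM fM rM n := fun n =>
    map_rNF MM.subtype cQ dQ fQ rQ n
  have e42 : a1 d (r * (c * c)) = rNF c d f r 42 := by
    have e : a1 dQ (rQ * (cQ * cQ)) = rNF cQ dQ fQ rQ 42 := Subtype.ext (by rw [hM 42]; exact ha)
    rw [← hψ, ← e]
    simp only [a1, map_mul, map_inv, hc, hd, hr]
  have e37 : f * a1 d (r * (c * c)) * f⁻¹ = rNF c d f r 37 := by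
    have e : fQ * a1 dQ (rQ * (cQ * cQ)) * fQ⁻¹ = rNF cQ dQ fQ rQ 37 := Subtype.ext (by rw [hM 37]; exact ha')
    rw [← hψ, ← e]
    simp only [a1, map_mul, map_inv, hc, hd, hf, hr]
  have ht : c * c ∈ R := mul_mem (by rw [L.R_eq]; exact subset_closure (by simp [rSet]))
    (by rw [L.R_eq]; exact subset_closure (by simp [rSet]))
  have hRH : R ≤ H := fun x hx => by
    rw [L.hH, mem_centralizer_iff]
    rintro _ rfl
    rw [mul_assoc, C.c_central hx, ← mul_assoc, C.c_central hx, mul_assoc]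
  refine ⟨{ rel := hrel', hH := L.hH, order_t := L.order_t, card_R := L.card_R, card_H := L.card_H,
            normal_R := L.normal_R, quot := L.quot, card_M := L.card_M, R_eq := ?_, M_eq := ?_ },
    { mem := O.mem, nmem := O.nmem, hf := O.hf, sq := O.sq, comm := ?_, braid := ?_ }, e42⟩
  · refine le_antisymm ?_ ((closure_le R).2 ?_)
    · conv_lhs => rw [L.R_eq]
      rw [closure_le]
      set K := closure (rSet c d f (r * (c * c)))
      have g0 : c ∈ K := subset_closure (by simp [rSet])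
      have g1 : e1 c d * e1 c d ∈ K := subset_closure (by simp [rSet])
      have g2 : e2 c d * e2 c d ∈ K := subset_closure (by simp [rSet])
      have g3 : rNF c d f r 42 ∈ K := e42 ▸ subset_closure (by simp [rSet])
      have g4 : rNF c d f r 37 ∈ K := e37 ▸ subset_closure (by simp [rSet])
      rintro x (rfl | rfl | rfl | rfl | rfl)
      · exact g0
      · exact g1
      · exact g2
      · rw [show a1 d r = g5 c d f r 3 from rfl, g5_code c d f r 3 (by norm_num),
          show gn.getD 3 0 = mulT (mulT 42 8) 32 by decide +kernel, ← C.mul (mulT_lt (by norm_num) 8),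
          ← C.mul (by norm_num), rNF_c c d f r (by norm_num : 32 % 16 = 0),
          show rNF c d f r 8 = e1 c d * e1 c d from (g5_code c d f r 1 (by norm_num)).symm]
        exact mul_mem (mul_mem g3 g1) (pow_mem g0 _)
      · rw [show f * a1 d r * f⁻¹ = g5 c d f r 4 from rfl, g5_code c d f r 4 (by norm_num),
          show gn.getD 4 0 = mulT (mulT 37 4) 32 by decide +kernel, ← C.mul (mulT_lt (by norm_num) 4),
          ← C.mul (by norm_num), rNF_c c d f r (by norm_num : 32 % 16 = 0),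
          show rNF c d f r 4 = e2 c d * e2 c d from (g5_code c d f r 2 (by norm_num)).symm]
        exact mul_mem (mul_mem g4 g2) (pow_mem g0 _)
    · have gen : ∀ x ∈ rSet c d f r, x ∈ R := fun x hx => by rw [L.R_eq]; exact subset_closure hx
      rintro x (rfl | rfl | rfl | rfl | rfl)
      · exact gen _ (by simp [rSet])
      · exact gen _ (by simp [rSet])
      · exact gen _ (by simp [rSet])
      · exact e42 ▸ C.mem_rNF (by norm_num)
      · exact e37 ▸ C.mem_rNF (by norm_num)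
  · rw [L.M_eq]
    refine le_antisymm ((closure_le _).2 ?_) ((closure_le _).2 ?_)
    · set K := closure ({c, d, f, r * (c * c)} : Set G)
      have g0 : c ∈ K := subset_closure (by simp)
      have g1 : r * (c * c) ∈ K := subset_closure (by simp)
      have g2 : d ∈ K := subset_closure (by simp)
      have g3 : f ∈ K := subset_closure (by simp)
      rintro x (rfl | rfl | rfl | rfl)
      exacts [g0, g2, g3, (mul_mem_cancel_right (mul_mem g0 g0)).1 g1]
    · set K := closure ({c, d, f, r} : Set G)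
      have g0 : c ∈ K := subset_closure (by simp)
      have g1 : r ∈ K := subset_closure (by simp)
      have g2 : d ∈ K := subset_closure (by simp)
      have g3 : f ∈ K := subset_closure (by simp)
      rintro x (rfl | rfl | rfl | rfl)
      exacts [g0, g2, g3, mul_mem g1 (mul_mem g0 g0)]
  · have e : h * (r * (c * c)) * h⁻¹ * (r * (c * c))⁻¹ = h * r * h⁻¹ * r⁻¹ := by
      have : c * c * h⁻¹ = h⁻¹ * (c * c) := t_comm L (inv_mem O.mem)
      calc _ = h * r * (c * c * h⁻¹) * (c * c)⁻¹ * r⁻¹ := by group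
        _ = _ := by rw [this]; group
    rw [e]; exact O.comm
  · have hs : rw' c d (r * (c * c)) = rw' c d r * (c * c) := by
      have k1 : Commute c (e1 c d) := L.rel.cc
      have k2 : Commute c (e2 c d) := L.rel.cc2
      have k : Commute (c * c) (e1 c d * e2 c d) :=
        (k1.mul_left k1).mul_right (k2.mul_left k2)
      rw [rw', rw', mul_assoc r, k.eq, ← mul_assoc]
    have hsH : Commute (c * c) (h * rw' c d r) := by
      have k1 : Commute c (e1 c d) := L.rel.cc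
      have k2 : Commute c (e2 c d) := L.rel.cc2
      have k3 : Commute (c * c) r := by
        have e : r * c = c⁻¹ * r := by rw [← L.rel.rc, mul_assoc (r * c), L.rel.rr, mul_one]
        have e4 : c⁻¹ * c⁻¹ = c * c := by
          rw [← mul_inv_rev, inv_eq_iff_mul_eq_one, ← L.rel.c4]
          simp only [pow_succ, pow_zero, one_mul, mul_assoc]
        show c * c * r = r * (c * c)
        rw [← mul_assoc r, e, mul_assoc c⁻¹, e, ← mul_assoc c⁻¹, e4]
      exact (show Commute (c * c) h from t_comm L O.mem).mul_right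
        (k3.mul_right ((k1.mul_left k1).mul_right (k2.mul_left k2)))
    rw [hs, ← mul_assoc, hsH.symm.mul_pow]
    exact mul_mem O.braid (pow_mem ht 3)

/-- An element over the transposition outside `M`. -/
theorem exists_first (hlow : 5376 < Nat.card MM) (L : Loc H R M c d f r) :
    ∃ h, Over H R M c d f r h := by
  obtain ⟨C, hmap⟩ := exists_ctx hlow L
  obtain ⟨φ, hinj, hrange, hc, hd, hf, hr⟩ := L.exists_emb hlow
  have hψ := hmap φ hc hd hf hr
  have hM : ∀ n, ((rNF cQ dQ fQ rQ n : MM) : Perm (Fin 64)) = rNF cM dM fM rM n := fun n =>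
    map_rNF MM.subtype cQ dQ fQ rQ n
  set w := e1 c d * e2 c d with hw
  have hwφ : φ (e1 cQ dQ * e2 cQ dQ) = w := by simp only [hw, e1, e2, map_mul, map_inv, hc, hd]
  have nin : ∀ x : MM, (∀ n < 64, rNF cM dM fM rM n ≠ (x : Perm (Fin 64))) → φ x ∉ R := by
    intro x hx hmem
    obtain ⟨n, hn, e⟩ := (C.mem _).1 hmem
    rw [← hψ] at e
    exact hx n hn (by rw [← hM, hinj e])
  have fR : f ∉ R := hf ▸ nin fQ fun n hn => (notin_M n hn).1
  have rR : r ∉ R := hr ▸ nin rQ fun n hn => (notin_M n hn).2.1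
  have wR : w ∉ R := hwφ ▸ nin _ fun n hn => (notin_M n hn).2.2.1
  have wrR : w * r⁻¹ ∉ R := by
    have : φ (e1 cQ dQ * e2 cQ dQ * rQ⁻¹) = w * r⁻¹ := by rw [map_mul, hwφ, map_inv, hr]
    exact this ▸ nin _ fun n hn => (notin_M n hn).2.2.2.1
  have v4R : f * w * f⁻¹ * w⁻¹ ∉ R := by
    have : φ (fQ * (e1 cQ dQ * e2 cQ dQ) * fQ⁻¹ * (e1 cQ dQ * e2 cQ dQ)⁻¹) = f * w * f⁻¹ * w⁻¹ := by
      simp only [map_mul φ (fQ * _ * fQ⁻¹), map_mul φ (fQ * _), map_mul φ fQ, map_inv, hwφ, hf]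
    exact this ▸ nin _ fun n hn => (notin_M n hn).2.2.2.2
  obtain ⟨q1, -, q3, q4, -, -, -⟩ := quot_M
  have ww : w * w ∈ R := by
    have e : (e1 cQ dQ * e2 cQ dQ) * (e1 cQ dQ * e2 cQ dQ) = rNF cQ dQ fQ rQ 12 :=
      Subtype.ext (by rw [hM 12]; exact q1)
    have := congrArg φ e
    rw [map_mul, hwφ, hψ] at this
    exact this ▸ C.mem_rNF (by norm_num)
  have rw1 : r * w * r⁻¹ * w⁻¹ = 1 := by
    have e : rQ * (e1 cQ dQ * e2 cQ dQ) * rQ⁻¹ * (e1 cQ dQ * e2 cQ dQ)⁻¹ = 1 := Subtype.ext q3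
    have := congrArg φ e
    simpa only [map_mul φ (rQ * _ * rQ⁻¹), map_mul φ (rQ * _), map_mul φ rQ, map_inv, hwφ, hr, map_one]
      using this
  have v41 : f * w * f⁻¹ * w * (f * w * f⁻¹)⁻¹ * w⁻¹ = 1 := by
    have e : fQ * (e1 cQ dQ * e2 cQ dQ) * fQ⁻¹ * (e1 cQ dQ * e2 cQ dQ) *
        (fQ * (e1 cQ dQ * e2 cQ dQ) * fQ⁻¹)⁻¹ * (e1 cQ dQ * e2 cQ dQ)⁻¹ = 1 := Subtype.ext q4
    have := congrArg φ e
    simpa only [map_mul φ (fQ * _ * fQ⁻¹ * _ * _), map_mul φ (fQ * _ * fQ⁻¹ * _),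
      map_mul φ (fQ * _ * fQ⁻¹), map_mul φ (fQ * _), map_mul φ fQ, map_inv, hwφ, hf, map_one] using this
  have eri : r⁻¹ = r := inv_eq_of_mul_eq_one_right L.rel.rr
  have hct : ∀ {x : G}, Commute c x → x ∈ H := fun {x} hx => by
    rw [L.hH, mem_centralizer_iff]
    rintro _ rfl
    exact (hx.mul_left hx).eq
  have fH : f ∈ H := hct (by
    have := L.rel.fc
    rw [mul_inv_eq_iff_eq_mul] at this
    exact this.symm)
  have rH : r ∈ H := by
    rw [L.hH, mem_centralizer_iff]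
    rintro _ rfl
    have e : r * c = c⁻¹ * r := by rw [← L.rel.rc, mul_assoc (r * c), L.rel.rr, mul_one]
    have e4 : c⁻¹ * c⁻¹ = c * c := by
      rw [← mul_inv_rev, inv_eq_iff_mul_eq_one, ← L.rel.c4]
      simp only [pow_succ, pow_zero, one_mul, mul_assoc]
    rw [← mul_assoc r, e, mul_assoc c⁻¹, e, ← mul_assoc c⁻¹, e4]
  have wH : w ∈ H := hct ((show Commute c (e1 c d) from L.rel.cc).mul_right L.rel.cc2)
  have hRH : R ≤ H := fun x hx => hct (C.c_central hx)
  obtain ⟨π, hπ, hker⟩ := L.quot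
  have r_rf : r * f * r⁻¹ * f ∈ R := by rw [eri, L.rel.rf, inv_mul_cancel]; exact one_mem _
  obtain ⟨h, hH, hR, hhf, hhh, hhr, hhb⟩ := exists_over hRH L.card_R π hπ hker fH rH wH L.rel.f3 fR
    (L.rel.rr ▸ one_mem R) rR r_rf ww wR (rw1 ▸ one_mem R) wrR (v41 ▸ one_mem R) v4R
  refine ⟨h, hH, fun hM' => ?_, hhf, hhh, hhr, hhb⟩
  -- otherwise `M` has an element of order divisible by five
  have hmem : ∀ (x : ↥H), (x : G) ∈ R ↔ π x = 1 := fun x => by
    rw [← MonoidHom.mem_ker, hker, mem_subgroupOf]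
  let f' : ↥H := ⟨f, fH⟩
  let r' : ↥H := ⟨r, rH⟩
  let w' : ↥H := ⟨w, wH⟩
  let h' : ↥H := ⟨h, hH⟩
  have p1 : π (r' * r') = 1 := (hmem _).1 (show r * r ∈ R from L.rel.rr ▸ one_mem R)
  have p2 : π (r' * f' * r'⁻¹ * f') = 1 := (hmem _).1 r_rf
  have p3 : π (r' * w' * r'⁻¹ * w'⁻¹) = 1 := (hmem _).1 (show r * w * r⁻¹ * w⁻¹ ∈ R from rw1 ▸ one_mem R)
  have p4 : π (f' * w' * f'⁻¹ * w' * (f' * w' * f'⁻¹)⁻¹ * w'⁻¹) = 1 :=
    (hmem _).1 (show f * w * f⁻¹ * w * (f * w * f⁻¹)⁻¹ * w⁻¹ ∈ R from v41 ▸ one_mem R)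
  have p5 : π (h' * r' * h'⁻¹ * r'⁻¹) = 1 := (hmem _).1 hhr
  have p6 : π (h' * f' * h'⁻¹) = π f' := congrArg π (Subtype.ext hhf)
  simp only [map_mul, map_inv] at p1 p2 p3 p4 p5 p6
  have b2 : (π r')⁻¹ = π r' := inv_eq_of_mul_eq_one_right p1
  obtain ⟨h5, h5'⟩ := five_cycle (π f')
    (by rw [← map_pow, show f' ^ 3 = 1 from Subtype.ext L.rel.f3, map_one]) (fun e => fR ((hmem f').2 e))
    (π r') p1 (fun e => rR ((hmem r').2 e)) (by rw [b2] at p2; exact eq_inv_of_mul_eq_one_left p2)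
    (π w') (by rw [← map_mul]; exact (hmem (w' * w')).1 ww) (fun e => wR ((hmem w').2 e))
    (by rw [mul_inv_eq_one, mul_inv_eq_iff_eq_mul] at p3; exact p3)
    (fun e => wrR ((hmem (w' * r'⁻¹)).2 (by rw [map_mul, map_inv, e, mul_inv_cancel])))
    (by rw [mul_inv_eq_one, mul_inv_eq_iff_eq_mul] at p4; exact p4)
    (fun e => v4R ((hmem (f' * w' * f'⁻¹ * w'⁻¹)).2 (by simp only [map_mul, map_inv]; rw [e, mul_inv_cancel])))
    (π h') (by rw [← map_mul]; exact (hmem (h' * h')).1 hhh) (fun e => hR ((hmem h').2 e))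
    (mul_inv_eq_iff_eq_mul.1 p6) (by rw [mul_inv_eq_one, mul_inv_eq_iff_eq_mul] at p5; exact p5)
    (by rw [← map_mul, ← map_mul, ← map_pow]; exact (hmem ((h' * (r' * w')) ^ 3)).1 hhb)
  set y := f * (r * w * h)
  have hy5 : y ^ 5 ∈ R := (hmem ((f' * (r' * w' * h')) ^ 5)).2 (by
    simp only [map_pow, map_mul]; exact h5)
  have hyR : y ∉ R := fun e => h5' (by
    have := (hmem (f' * (r' * w' * h'))).1 e
    simpa only [map_mul] using this)
  have hwM : w ∈ M := hrange ▸ ⟨_, hwφ⟩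
  have hyM : y ∈ M := mul_mem (hrange ▸ ⟨_, hf⟩) (mul_mem (mul_mem (hrange ▸ ⟨_, hr⟩) hwM) hM')
  have hdvd : orderOf y ∣ 10752 := L.card_M ▸ Subgroup.orderOf_dvd_natCard M hyM
  obtain ⟨m, hm⟩ := exists_pow_eq_self_of_coprime (x := y) (n := 5)
    (Nat.Coprime.coprime_dvd_right hdvd (by norm_num))
  exact hyR (hm ▸ pow_mem hy5 m)

/-- The normalised element once the action on `R` is known. -/
theorem normalise (hlow : 5376 < Nat.card MM) (L : Loc H R M c d f r) {h : G}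
    (O : Over H R M c d f r h) (hc : h * c * h⁻¹ = c⁻¹)
    (hα : ∀ n, h * rNF c d f r n * h⁻¹ = rNF c d f r (ap [48, 2, 1, 8, 4] n)) :
    ∃ h : G, HRel c d f r h ∧ h ∈ H ∧ h ∉ M := by
  obtain ⟨C, hmap⟩ := exists_ctx hlow L
  obtain ⟨φ, hinj, hrange, φc, φd, φf, φr⟩ := L.exists_emb hlow
  have hψ := hmap φ φc φd φf φr
  have hM : ∀ n, ((rNF cQ dQ fQ rQ n : MM) : Perm (Fin 64)) = rNF cM dM fM rM n := fun n =>
    map_rNF MM.subtype cQ dQ fQ rQ n
  obtain ⟨-, q2, -, -, q5, q6, q7⟩ := quot_M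
  set s := rw' c d r with hs
  have hsφ : φ (rw' cQ dQ rQ) = s := by simp only [hs, rw', e1, e2, map_mul, map_inv, φc, φd, φr]
  have haφ : φ (a1 dQ rQ * (fQ * a1 dQ rQ * fQ⁻¹)) = a1 d r * (f * a1 d r * f⁻¹) := by
    simp only [a1, map_mul, map_inv, φd, φf, φr]
  have sc : s * c * s⁻¹ = c⁻¹ := by
    have e : rw' cQ dQ rQ * cQ * (rw' cQ dQ rQ)⁻¹ = cQ⁻¹ := Subtype.ext q5
    have := congrArg φ e
    rwa [map_mul, map_mul, map_inv, map_inv, hsφ, φc] at this
  have rs : r * s * r⁻¹ = s := by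
    have e : rQ * rw' cQ dQ rQ * rQ⁻¹ = rw' cQ dQ rQ := Subtype.ext q6
    have := congrArg φ e
    rwa [map_mul, map_mul, map_inv, hsφ, φr] at this
  have ss : s * s = rNF c d f r 12 := by
    have e : rw' cQ dQ rQ * rw' cQ dQ rQ = rNF cQ dQ fQ rQ 12 := Subtype.ext (by rw [hM 12]; exact q2)
    have := congrArg φ e
    rwa [map_mul, hsφ, hψ] at this
  have val : (s⁻¹ * (a1 d r * (f * a1 d r * f⁻¹))⁻¹) ^ 2 = 1 := by
    have e : ((rw' cQ dQ rQ)⁻¹ * (a1 dQ rQ * (fQ * a1 dQ rQ * fQ⁻¹))⁻¹) ^ 2 = 1 := Subtype.ext q7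
    have := congrArg φ e
    rwa [map_pow, map_mul, map_inv, map_inv, hsφ, haφ, map_one] at this
  have eri : r⁻¹ = r := inv_eq_of_mul_eq_one_right L.rel.rr
  have hne : c * c ≠ 1 := fun e => by
    have := L.order_t
    rw [e, orderOf_one] at this
    exact absurd this (by norm_num)
  have cpow : ∀ n : ℕ, h * c ^ n * h⁻¹ = (c ^ n)⁻¹ := fun n => by rw [← conj_pow, hc, inv_pow]
  -- the cube lies in `⟨c⟩`
  obtain ⟨U, hU, hUe⟩ := (C.mem _).1 O.braid
  have hcen : ∀ g ∈ gn, mulT U g = mulT g U := by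
    intro g hg
    have hg64 : g < 64 := by revert g hg; decide
    have e : cube [48, 2, 1, 8, 4] g = g := by simpa using List.all_eq_true.1 cube_ok g hg
    refine C.inj _ (mulT_lt hU g) _ (mulT_lt hg64 U) ?_
    rw [← C.mul hU, ← C.mul hg64]
    conv_rhs => rw [← e, cube, ← hα, ← C.conjS, ← hα, ← C.conjS, ← hα, ← C.conjS]
    rw [hUe]
    simp only [pow_succ, pow_zero, one_mul, mul_inv_rev, mul_assoc]
    group
  have hU16 : U % 16 = 0 := by
    have e := List.all_eq_true.1 centre_ok U (List.mem_range.2 hU)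
    have : (gn.all fun g => mulT U g == mulT g U) = true :=
      List.all_eq_true.2 fun g hg => by simp [hcen g hg]
    simpa [this] using e
  have hu : (h * s) ^ 3 = c ^ (U / 16) := by rw [← hUe, rNF_c c d f r hU16]
  set k := U / 16
  -- the new element
  set h₁ := h * c ^ (3 * k) with hh₁
  have hcs : Commute (h * s) c := by
    show h * s * c = c * (h * s)
    calc h * s * c = h * (s * c * s⁻¹) * s := by group
      _ = h * c⁻¹ * h⁻¹ * (h * s) := by rw [sc]; group
      _ = _ := by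
        rw [show h * c⁻¹ * h⁻¹ = (h * c * h⁻¹)⁻¹ by group, hc, inv_inv]
  have h1c : h₁ * c * h₁⁻¹ = c⁻¹ := by
    rw [hh₁, ← hc]
    have := (Commute.pow_self c (3 * k)).eq
    calc h * c ^ (3 * k) * c * (h * c ^ (3 * k))⁻¹ = h * (c ^ (3 * k) * c) * (c ^ (3 * k))⁻¹ * h⁻¹ := by group
      _ = _ := by rw [this]; group
  have h1s : h₁ * s = h * s * (c ^ (3 * k))⁻¹ := by
    rw [hh₁, mul_assoc h, swapn sc (3 * k), ← mul_assoc]
  have braid : (h₁ * s) ^ 3 = 1 := by
    rw [h1s, ((hcs.pow_right (3 * k)).inv_right).mul_pow, hu, inv_pow, ← pow_mul, mul_inv_eq_one,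
      show 3 * k * 3 = 4 * (2 * k) + k by ring, pow_add, pow_mul c 4, L.rel.c4, one_pow, one_mul]
  have hx : ∀ x : G, Commute c x → h₁ * x * h₁⁻¹ = h * x * h⁻¹ := fun x e => by
    have e' : c ^ (3 * k) * x = x * c ^ (3 * k) := (e.pow_left _).eq
    rw [hh₁]
    calc h * c ^ (3 * k) * x * (h * c ^ (3 * k))⁻¹ = h * (c ^ (3 * k) * x) * (c ^ (3 * k))⁻¹ * h⁻¹ := by group
      _ = _ := by rw [e']; group
  have h1f : h₁ * f * h₁⁻¹ = f := by
    rw [hx f (by have := L.rel.fc; rw [mul_inv_eq_iff_eq_mul] at this; exact this.symm), O.hf]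
  have h1α : ∀ n < 64, h₁ * rNF c d f r n * h₁⁻¹ = rNF c d f r (ap [48, 2, 1, 8, 4] n) := fun n hn => by
    rw [hx _ (C.c_central (C.mem_rNF hn)), hα]
  have h1sq : h₁ * h₁ = h * h := by
    have k1 : h * h * c ^ (3 * k) = c ^ (3 * k) * (h * h) := by
      have e1 : h * c ^ (3 * k) = (c ^ (3 * k))⁻¹ * h := by rw [← cpow]; group
      have e2 : h * (c ^ (3 * k))⁻¹ = c ^ (3 * k) * h := by
        exact (swapn hc (3 * k)).symm
      rw [mul_assoc h h, e1, ← mul_assoc, e2, mul_assoc]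
    have e1 : h * c ^ (3 * k) = (c ^ (3 * k))⁻¹ * h := by rw [← cpow]; group
    calc h₁ * h₁ = (h * c ^ (3 * k)) * h * c ^ (3 * k) := by rw [hh₁]; group
      _ = (c ^ (3 * k))⁻¹ * (h * h * c ^ (3 * k)) := by rw [e1]; group
      _ = _ := by rw [k1]; group
  have hfh : ∀ {g : G}, g * f * g⁻¹ = f → f * (g * g) * f⁻¹ = g * g := fun {g} e => by
    rw [mul_inv_eq_iff_eq_mul] at e
    rw [← mul_assoc, ← e, mul_assoc g f g, ← e]; group
  have hsq2 : h * h = 1 ∨ h * h = c * c := by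
    obtain ⟨i, hi, he⟩ := C.fix_f O.sq (hfh O.hf)
    have e1 : c ^ (2 * i) = 1 := by
      have e := cpow i
      rw [← he, show h * (h * h) * h⁻¹ = h * h by group, he, eq_inv_iff_mul_eq_one] at e
      rw [two_mul, pow_add, e]
    interval_cases i
    · exact Or.inl (by simpa using he)
    · exact absurd (by rw [← pow_two]; exact e1) hne
    · exact Or.inr (by rw [he, pow_two])
    · refine absurd ?_ hne
      rw [← pow_two, ← e1, show 2 * 3 = 4 + 2 by norm_num, pow_add, L.rel.c4, one_mul]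
  have hrH : r ∈ H ∧ h₁ ∈ H := by
    have cH : c ∈ H := by
      rw [L.hH, mem_centralizer_iff]; rintro _ rfl; exact mul_assoc c c c
    refine ⟨?_, mul_mem O.mem (pow_mem cH _)⟩
    rw [L.hH, mem_centralizer_iff]
    rintro _ rfl
    have e : r * c = c⁻¹ * r := by rw [← L.rel.rc, mul_assoc (r * c), L.rel.rr, mul_one]
    have e4 : c⁻¹ * c⁻¹ = c * c := by
      rw [← mul_inv_rev, inv_eq_iff_mul_eq_one, ← L.rel.c4]
      simp only [pow_succ, pow_zero, one_mul, mul_assoc]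
    rw [← mul_assoc r, e, mul_assoc c⁻¹, e, ← mul_assoc c⁻¹, e4]
  -- it commutes with `r`
  have h1r : h₁ * r * h₁⁻¹ = r := by
    obtain ⟨j₀, -, hj₀⟩ := C.fix_f O.comm (by
      have er : r * f * r = f⁻¹ := L.rel.rf
      have e2 : f * r = r * f⁻¹ := by rw [← er, ← mul_assoc, ← mul_assoc, L.rel.rr, one_mul]
      have hfi : f * h = h * f := (mul_inv_eq_iff_eq_mul.1 O.hf).symm
      have hfhi : f⁻¹ * h⁻¹ = h⁻¹ * f⁻¹ := by rw [← mul_inv_rev, ← mul_inv_rev, hfi]
      calc f * (h * r * h⁻¹ * r⁻¹) * f⁻¹ = (f * h) * r * h⁻¹ * (r * f⁻¹) := by rw [eri]; group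
        _ = h * (f * r) * h⁻¹ * (f * r) := by rw [hfi, ← e2]; group
        _ = h * r * (f⁻¹ * h⁻¹) * (f * r) := by rw [e2]; group
        _ = h * r * h⁻¹ * r⁻¹ := by rw [hfhi, eri]; group)
    obtain ⟨j, hj⟩ : ∃ j : ℤ, h₁ * r * h₁⁻¹ = c ^ j * r := by
      refine ⟨j₀ - 2 * (3 * k : ℕ), ?_⟩
      have e : r * c * r⁻¹ = c⁻¹ := by rw [eri]; exact L.rel.rc
      have e' : c ^ (3 * k) * r * (c ^ (3 * k))⁻¹ = c ^ (3 * k) * c ^ (3 * k) * r := by
        have : r * c ^ (3 * k) * r⁻¹ = (c ^ (3 * k))⁻¹ := by rw [← conj_pow, e, inv_pow]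
        rw [mul_assoc, mul_assoc]
        congr 1
        rw [← inv_inj, mul_inv_rev, mul_inv_rev, inv_inv, ← this]; group
      rw [hh₁, show h * c ^ (3 * k) * r * (h * c ^ (3 * k))⁻¹ =
        h * (c ^ (3 * k) * r * (c ^ (3 * k))⁻¹) * h⁻¹ by group, e',
        show h * (c ^ (3 * k) * c ^ (3 * k) * r) * h⁻¹ =
          (h * c ^ (3 * k) * h⁻¹) * (h * c ^ (3 * k) * h⁻¹) * (h * r * h⁻¹ * r⁻¹) * r by group,
        cpow, hj₀, ← zpow_natCast, ← zpow_natCast c j₀, ← zpow_neg, ← zpow_add, ← zpow_add]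
      congr 2
      ring
    have hK : Commute (h₁ * s) c := by
      rw [h1s]
      exact hcs.mul_left ((Commute.refl c).pow_left _).inv_left
    have key : r * (h₁ * s) * r⁻¹ = h₁ * s * (c ^ j)⁻¹ := by
      have e1 : h₁⁻¹ * r * h₁ = c ^ j * r := by
        have e2 : h₁⁻¹ * c ^ j * h₁ = (c ^ j)⁻¹ := by
          have := congrArg (fun x => h₁⁻¹ * x⁻¹ * h₁) (show h₁ * c ^ j * h₁⁻¹ = (c ^ j)⁻¹ by
            rw [← conj_zpow, h1c, inv_zpow])
          rw [inv_inv] at this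
          rw [← this]; group
        calc h₁⁻¹ * r * h₁ = (h₁⁻¹ * c ^ j * h₁)⁻¹ * (h₁⁻¹ * (c ^ j * r) * h₁) := by group
          _ = _ := by rw [e2, inv_inv, show h₁⁻¹ * (c ^ j * r) * h₁ = r by rw [← hj]; group]
      calc r * (h₁ * s) * r⁻¹ = h₁ * (h₁⁻¹ * r * h₁) * (r⁻¹ * (r * s * r⁻¹)) := by group
        _ = h₁ * c ^ j * s := by rw [e1, rs]; group
        _ = h₁ * s * (c ^ j)⁻¹ := by
          rw [mul_assoc, swapz sc j, ← mul_assoc]
    have hcube : ((c ^ j)⁻¹) ^ 3 = 1 := by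
      have e := congrArg (fun x => r * x * r⁻¹) braid
      rwa [← conj_pow, key, ((hK.zpow_right j).inv_right).mul_pow, braid, one_mul, mul_one,
        mul_inv_cancel] at e
    have hj1 : c ^ j = 1 := by
      have h4 : (c ^ j) ^ 4 = 1 := by
        rw [← zpow_natCast, ← zpow_mul, mul_comm, zpow_mul, zpow_natCast, L.rel.c4, one_zpow]
      rw [inv_pow, inv_eq_one] at hcube
      rw [pow_succ, hcube, one_mul] at h4
      exact h4
    rw [hj, hj1, one_mul]
  -- it is an involution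
  have h1one : h₁ * h₁ = 1 := by
    rcases hsq2 with e | e
    · rw [h1sq, e]
    · exfalso
      rw [← h1sq] at e
      have hA : h₁ * (s * s)⁻¹ * h₁⁻¹ = (a1 d r * (f * a1 d r * f⁻¹))⁻¹ := by
        rw [show h₁ * (s * s)⁻¹ * h₁⁻¹ = (h₁ * (s * s) * h₁⁻¹)⁻¹ by group, ss, h1α 12 (by norm_num)]
        rw [show ap [48, 2, 1, 8, 4] 12 = mulT 2 1 by decide +kernel, ← C.mul (by norm_num)]
        rw [show rNF c d f r 2 = a1 d r from (g5_code c d f r 3 (by norm_num)).symm,
          show rNF c d f r 1 = f * a1 d r * f⁻¹ from (g5_code c d f r 4 (by norm_num)).symm]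
      have key : (h₁ * s) * h₁ * (h₁ * s)⁻¹ =
          s⁻¹ * (h₁ * h₁)⁻¹ * (h₁ * (s * s)⁻¹ * h₁⁻¹) := by
        have e3 : h₁ * s * h₁ = s⁻¹ * h₁⁻¹ * s⁻¹ := by
          have : h₁ * s * h₁ * (s * h₁ * s) = 1 := by
            rw [← braid]; simp only [pow_succ, pow_zero, one_mul, mul_assoc]
          rw [eq_inv_of_mul_eq_one_left this]; group
        calc (h₁ * s) * h₁ * (h₁ * s)⁻¹ = (h₁ * s * h₁) * s⁻¹ * h₁⁻¹ := by group
          _ = _ := by rw [e3]; group
      rw [hA, e] at key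
      have hct : ∀ {x : G}, x ∈ H → Commute (c * c) x := fun hx => t_comm L hx
      have tA : Commute (c * c) (a1 d r * (f * a1 d r * f⁻¹)) := by
        have h3 : a1 d r ∈ R := by rw [L.R_eq]; exact subset_closure (by simp [rSet])
        have h4 : f * a1 d r * f⁻¹ ∈ R := by rw [L.R_eq]; exact subset_closure (by simp [rSet])
        have := C.c_central (mul_mem h3 h4)
        exact (Commute.mul_left this this)
      have ts : Commute (c * c) s := by
        have k1 : Commute c (e1 c d) := L.rel.cc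
        have k2 : Commute c (e2 c d) := L.rel.cc2
        exact (hct hrH.1).mul_right ((k1.mul_left k1).mul_right (k2.mul_left k2))
      have sq : ((h₁ * s) * h₁ * (h₁ * s)⁻¹) ^ 2 = c * c := by
        rw [conj_pow, pow_two, e, ((hct hrH.2).mul_right ts).symm.eq, mul_inv_cancel_right]
      rw [key, show s⁻¹ * (c * c)⁻¹ = (c * c)⁻¹ * s⁻¹ from (ts.inv_inv).symm.eq, mul_assoc,
        (ts.inv_inv.mul_right tA.inv_inv).mul_pow, val, mul_one] at sq
      refine hne ?_
      rw [← sq, inv_pow, inv_eq_one, pow_two, ← L.rel.c4]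
      simp only [pow_succ, pow_zero, one_mul, mul_assoc]
  have h1inv : h₁⁻¹ = h₁ := inv_eq_of_mul_eq_one_right h1one
  refine ⟨h₁, { L.rel with hh := h1one, hc := ?_, hr := ?_, hf := ?_, hv := ?_, braid := braid },
    hrH.2, fun hm => O.nmem ?_⟩
  · rw [h1inv] at h1c; exact h1c
  · rw [h1inv] at h1r; exact h1r
  · rw [h1inv] at h1f; exact h1f
  · have := h1α 8 (by norm_num)
    rw [h1inv, show rNF c d f r 8 = e1 c d * e1 c d from (g5_code c d f r 1 (by norm_num)).symm,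
      show ap [48, 2, 1, 8, 4] 8 = 2 by decide +kernel,
      show rNF c d f r 2 = a1 d r from (g5_code c d f r 3 (by norm_num)).symm] at this
    exact this
  · have hcM : c ∈ M := hrange ▸ ⟨_, φc⟩
    simpa [hh₁] using mul_mem hm (inv_mem (pow_mem hcM (3 * k)))

end HSide

variable {G : Type*} [Group G]

/-- **The further involution of the centraliser.** -/
theorem exists_h [Finite G] (hlow : 5376 < Nat.card MM) {H R M : Subgroup G} {c d f r : G}
    (L : Loc H R M c d f r) :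
    ∃ r' h : G, Loc H R M c d f r' ∧ HRel c d f r' h ∧ h ∈ H ∧ h ∉ M := by
  obtain ⟨h, O⟩ := HSide.exists_first hlow L
  obtain ⟨hc, hα | hX⟩ := HSide.dichotomy hlow L O
  · obtain ⟨h', hR, hH, hM⟩ := HSide.normalise hlow L O hc hα
    exact ⟨r, h', L, hR, hH, hM⟩
  · obtain ⟨L', O', e42⟩ := HSide.change_r hlow L O
    obtain ⟨hc', hα' | hX'⟩ := HSide.dichotomy hlow L' O'
    · obtain ⟨h', hR, hH, hM⟩ := HSide.normalise hlow L' O' hc' hα'
      exact ⟨_, h', L', hR, hH, hM⟩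
    · obtain ⟨C', -⟩ := HSide.exists_ctx hlow L'
      rw [hX, ← e42] at hX'
      have := C'.inj 2 (by norm_num) 42 (by norm_num) (by
        rw [← hX']; exact (HSide.g5_code c d f _ 3 (by norm_num)).symm)
      omega

end Cfsg.Agent.HSRecog
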