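import Cfsg.Agent.HSRecog.Basic
import Cfsg.Agent.HSRecog.Ident.Data

/-!
A group generated by five elements with the relations of the amalgam is the Higman-Sims group, as soon as these
relations bound the order by that of the Higman-Sims group.
-/

set_option autoImplicit false
set_option maxRecDepth 100000
set_option maxHeartbeats 1000000
set_option linter.all false

namespace Cfsg.Agent.HSRecog

open Cfsg Cfsg.Agent.Compute Cfsg.Agent.StemCert Cfsg.Agent.LeechModel

universe u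

/-- The five permutations. -/
def fivePerm (i : Fin 5) : Equiv.Perm (Fin 100) where
  toFun x := Fin.ofNat 100 (getField 7 (IdentData.fiveCodes.getD i.1 0) x.1)
  invFun x := Fin.ofNat 100 (getField 7 (IdentData.invCodes.getD i.1 0) x.1)
  left_inv := by revert i; decide +kernel
  right_inv := by revert i; decide +kernel

theorem fivePerm_rel :
    HSRel (fivePerm 0) (fivePerm 1) (fivePerm 2) (fivePerm 3) (fivePerm 4) := by
  refine { c4 := ?_, cc := ?_, cc2 := ?_, poly := ?_, d7 := ?_, f3 := ?_, fd := ?_, fc := ?_, rr := ?_,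
           rc := ?_, re := ?_, rf := ?_, rd := ?_, hh := ?_, hc := ?_, hr := ?_, hf := ?_, hv := ?_,
           braid := ?_, loop := ?_ }
  all_goals (refine Equiv.ext ?_; decide +kernel)

section

variable {A B : Type*} [Group A] [Group B]

theorem HSRel.pullback (φ : A →* B) (hφ : Function.Injective φ) {c d f r h : A}
    (R : HSRel (φ c) (φ d) (φ f) (φ r) (φ h)) : HSRel c d f r h := by
  refine { c4 := hφ ?_, cc := hφ ?_, cc2 := hφ ?_, poly := hφ ?_, d7 := hφ ?_, f3 := hφ ?_, fd := hφ ?_,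
           fc := hφ ?_, rr := hφ ?_, rc := hφ ?_, re := hφ ?_, rf := hφ ?_, rd := hφ ?_, hh := hφ ?_,
           hc := hφ ?_, hr := hφ ?_, hf := hφ ?_, hv := hφ ?_, braid := hφ ?_, loop := hφ ?_ } <;>
    simp only [e1, e2, a1, rw', b0, loopEl, map_mul, map_inv, map_pow, map_one]
  exacts [R.c4, R.cc, R.cc2, R.poly, R.d7, R.f3, R.fd, R.fc, R.rr, R.rc, R.re, R.rf, R.rd, R.hh, R.hc, R.hr,
    R.hf, R.hv, R.braid, R.loop]

theorem HSRel.pair {c d f r h : A} {c' d' f' r' h' : B} (R : HSRel c d f r h) (R' : HSRel c' d' f' r' h') :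
    HSRel (c, c') (d, d') (f, f') (r, r') (h, h') where
  c4 := Prod.ext R.c4 R'.c4
  cc := Prod.ext R.cc R'.cc
  cc2 := Prod.ext R.cc2 R'.cc2
  poly := Prod.ext R.poly R'.poly
  d7 := Prod.ext R.d7 R'.d7
  f3 := Prod.ext R.f3 R'.f3
  fd := Prod.ext R.fd R'.fd
  fc := Prod.ext R.fc R'.fc
  rr := Prod.ext R.rr R'.rr
  rc := Prod.ext R.rc R'.rc
  re := Prod.ext R.re R'.re
  rf := Prod.ext R.rf R'.rf
  rd := Prod.ext R.rd R'.rd
  hh := Prod.ext R.hh R'.hh
  hc := Prod.ext R.hc R'.hc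
  hr := Prod.ext R.hr R'.hr
  hf := Prod.ext R.hf R'.hf
  hv := Prod.ext R.hv R'.hv
  braid := Prod.ext R.braid R'.braid
  loop := Prod.ext R.loop R'.loop

end

/-- The five elements of the group of the definitions. -/
noncomputable def fiveEl (s : ℕ) : ↥Spor.HS := evalW HigSims.gen (IdentData.toWords.getD s [])

theorem to_ok : wordsB 100 7 7 HigSims.Model.codes IdentData.toWords IdentData.fiveCodes 5 = true := by
  decide +kernel

theorem from_ok : wordsB 100 7 5 IdentData.fiveCodes IdentData.fromWords HigSims.Model.codes 7 = true := by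
  decide +kernel

theorem from_lt : ∀ s < 7, ∀ t ∈ IdentData.fromWords.getD s [], t < 5 := by decide +kernel

theorem fiveEl_coded : Coded (w := 7) (k := 5) HigSims.ι fiveEl IdentData.fiveCodes :=
  coded_of_wordsB HigSims.coded to_ok

theorem iota_fiveEl (i : Fin 5) : HigSims.ι (fiveEl i.1) = fivePerm i :=
  Equiv.ext fun x => Fin.ext (by
    rw [fiveEl_coded i.1 i.2 x]
    symm
    refine Nat.mod_eq_of_lt ?_
    revert x i
    decide +kernel)

theorem fiveEl_rel : HSRel (fiveEl 0) (fiveEl 1) (fiveEl 2) (fiveEl 3) (fiveEl 4) :=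
  HSRel.pullback HigSims.ι HigSims.ι_injective (by
    rw [show fiveEl 0 = fiveEl (0 : Fin 5).1 from rfl, show fiveEl 1 = fiveEl (1 : Fin 5).1 from rfl,
      show fiveEl 2 = fiveEl (2 : Fin 5).1 from rfl, show fiveEl 3 = fiveEl (3 : Fin 5).1 from rfl,
      show fiveEl 4 = fiveEl (4 : Fin 5).1 from rfl]
    simp only [iota_fiveEl]
    exact fivePerm_rel)

theorem fiveEl_gen :
    Subgroup.closure (genSet (fiveEl 0) (fiveEl 1) (fiveEl 2) (fiveEl 3) (fiveEl 4)) = ⊤ := by
  set K := Subgroup.closure (genSet (fiveEl 0) (fiveEl 1) (fiveEl 2) (fiveEl 3) (fiveEl 4))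
  have h5 : ∀ t < 5, fiveEl t ∈ K := by
    intro t ht
    refine Subgroup.subset_closure ?_
    interval_cases t <;> simp [genSet]
  have hg : ∀ s < 7, HigSims.gen s ∈ K := by
    intro s hs
    have hc := coded_of_wordsB fiveEl_coded from_ok s hs
    have he : HigSims.gen s = evalW fiveEl (IdentData.fromWords.getD s []) :=
      HigSims.ι_injective (Equiv.ext fun x => Fin.ext (by rw [HigSims.coded s hs x, hc x]))
    have hlt : ∀ t ∈ IdentData.fromWords.getD s [], t < 5 := from_lt s hs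
    rw [he]
    exact list_prod_mem fun y hy => by
      obtain ⟨t, ht, rfl⟩ := List.mem_map.mp hy
      exact h5 t (hlt t ht)
  refine eq_top_iff.2 fun x _ => ?_
  exact (Submonoid.closure_le (S := K.toSubmonoid)).2 (by rintro _ ⟨s, hs, rfl⟩; exact hg s hs)
    (HigSims.generated x)

/-- The group with the relations is the Higman-Sims group. -/
theorem isoHS_of_rel {G : Type u} [Group G] [Finite G] {c d f r h : G} (hR : HSRel c d f r h)
    (hgen : Subgroup.closure (genSet c d f r h) = ⊤) (hne : c * c ≠ 1)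
    (bound : ∀ (X : Type u) [Group X] [Finite X] (c d f r h : X), HSRel c d f r h →
      Subgroup.closure (genSet c d f r h) = ⊤ → Nat.card X ≤ 44352000) :
    Cfsg.Spor.IsoHS G := by
  classical
  set T : Set (G × ↥Spor.HS) :=
    genSet (c, fiveEl 0) (d, fiveEl 1) (f, fiveEl 2) (r, fiveEl 3) (h, fiveEl 4) with hT
  set L := Subgroup.closure T with hL
  have hc : ((c, fiveEl 0) : G × ↥Spor.HS) ∈ L := Subgroup.subset_closure (by simp [hT, genSet])
  have hd : ((d, fiveEl 1) : G × ↥Spor.HS) ∈ L := Subgroup.subset_closure (by simp [hT, genSet])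
  have hf : ((f, fiveEl 2) : G × ↥Spor.HS) ∈ L := Subgroup.subset_closure (by simp [hT, genSet])
  have hr : ((r, fiveEl 3) : G × ↥Spor.HS) ∈ L := Subgroup.subset_closure (by simp [hT, genSet])
  have hh : ((h, fiveEl 4) : G × ↥Spor.HS) ∈ L := Subgroup.subset_closure (by simp [hT, genSet])
  let p : L →* G := (MonoidHom.fst G ↥Spor.HS).comp L.subtype
  let q : L →* ↥Spor.HS := (MonoidHom.snd G ↥Spor.HS).comp L.subtype
  have psurj : Function.Surjective p := by
    rw [← MonoidHom.range_eq_top, eq_top_iff, ← hgen, Subgroup.closure_le]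
    rintro x (rfl | rfl | rfl | rfl | rfl)
    exacts [⟨⟨_, hc⟩, rfl⟩, ⟨⟨_, hd⟩, rfl⟩, ⟨⟨_, hf⟩, rfl⟩, ⟨⟨_, hr⟩, rfl⟩, ⟨⟨_, hh⟩, rfl⟩]
  have qsurj : Function.Surjective q := by
    rw [← MonoidHom.range_eq_top, eq_top_iff, ← fiveEl_gen, Subgroup.closure_le]
    rintro x (rfl | rfl | rfl | rfl | rfl)
    exacts [⟨⟨_, hc⟩, rfl⟩, ⟨⟨_, hd⟩, rfl⟩, ⟨⟨_, hf⟩, rfl⟩, ⟨⟨_, hr⟩, rfl⟩, ⟨⟨_, hh⟩, rfl⟩]
  have hle : Nat.card L ≤ 44352000 := by
    refine bound L ⟨_, hc⟩ ⟨_, hd⟩ ⟨_, hf⟩ ⟨_, hr⟩ ⟨_, hh⟩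
      (HSRel.pullback L.subtype L.subtype_injective (hR.pair fiveEl_rel)) ?_
    refine eq_top_iff.2 fun x _ => ?_
    have him : L.subtype '' genSet (⟨_, hc⟩ : L) ⟨_, hd⟩ ⟨_, hf⟩ ⟨_, hr⟩ ⟨_, hh⟩ = T := by
      simp [hT, genSet, Set.image_insert_eq]
    have himg : (Subgroup.closure (genSet (⟨_, hc⟩ : L) ⟨_, hd⟩ ⟨_, hf⟩ ⟨_, hr⟩ ⟨_, hh⟩)).map L.subtype = L :=
      (MonoidHom.map_closure _ _).trans ((congrArg Subgroup.closure him).trans hL.symm)
    obtain ⟨y, hy, hxy⟩ : x.1 ∈ (Subgroup.closure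
        (genSet (⟨_, hc⟩ : L) ⟨_, hd⟩ ⟨_, hf⟩ ⟨_, hr⟩ ⟨_, hh⟩)).map L.subtype := by
      rw [himg]; exact x.2
    rwa [← L.subtype_injective hxy]
  have qbij : Function.Bijective q := (Nat.bijective_iff_surjective_and_card q).2
    ⟨qsurj, le_antisymm (by rwa [HigSims.card_hs]) (Nat.card_le_card_of_surjective q qsurj)⟩
  let θ : L ≃* ↥Spor.HS := MulEquiv.ofBijective q qbij
  haveI : IsSimpleGroup L := θ.isSimpleGroup
  have pinj : Function.Injective p := by
    rw [← MonoidHom.ker_eq_bot_iff]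
    refine ((inferInstance : p.ker.Normal).eq_bot_or_eq_top).resolve_right fun e => hne ?_
    have hmem : (⟨_, hc⟩ : L) ∈ p.ker := e ▸ Subgroup.mem_top _
    rw [MonoidHom.mem_ker] at hmem
    have hc1 : c = 1 := hmem
    rw [hc1, one_mul]
  exact ⟨(MulEquiv.ofBijective p ⟨pinj, psurj⟩).symm.trans θ⟩

end Cfsg.Agent.HSRecog
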