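import Cfsg.Agent.HSRecog.Loop.Words
import Mathlib.GroupTheory.Finiteness

/-!
The circuit of length eight closes with one of eight candidates.
-/

set_option autoImplicit false
set_option maxRecDepth 100000

namespace Cfsg.Agent.HSRecog

open Subgroup

namespace Loop

variable {G : Type*} [Group G]

/-- The value of a word in a group. -/
def valG (c d f r : G) (w : List ℕ) : G := (w.map (lvG c d f r)).prod

variable {c d f r h : G}

theorem valG_append (u v : List ℕ) : valG c d f r (u ++ v) = valG c d f r u * valG c d f r v := by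
  rw [valG, valG, valG, List.map_append, List.prod_append]

theorem valG_cons (a : ℕ) (v : List ℕ) : valG c d f r (a :: v) = lvG c d f r a * valG c d f r v := by
  rw [valG, valG, List.map_cons, List.prod_cons]

theorem conj_flat (hR : HRel c d f r h) : ∀ ds : List ℕ, (∀ k ∈ ds, k < 7) →
    h * valG c d f r (ds.flatMap dgW) * h = valG c d f r (ds.flatMap agW)
  | [], _ => by simp [valG, hR.hh]
  | k :: ds, hds => by
    have e : h * valG c d f r (dgW k) * h = valG c d f r (agW k) := by
      have hk := hds k (List.mem_cons_self ..)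
      have key : h * valG c d f r (dgW k) = valG c d f r (agW k) * h := by
        interval_cases k
        exacts [hR.rules 0 (by norm_num), hR.rules 2 (by norm_num), hR.rules 3 (by norm_num),
          hR.rules 4 (by norm_num), hR.rules 5 (by norm_num), hR.rules 6 (by norm_num),
          hR.rules 8 (by norm_num)]
      rw [key, mul_assoc, hR.hh, mul_one]
    have ih := conj_flat hR ds fun a ha => hds a (List.mem_cons_of_mem k ha)
    rw [List.flatMap_cons, List.flatMap_cons, valG_append, valG_append, ← e, ← ih]
    calc h * (valG c d f r (dgW k) * valG c d f r (ds.flatMap dgW)) * h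
        = h * valG c d f r (dgW k) * (h * h) * valG c d f r (ds.flatMap dgW) * h := by
          rw [hR.hh]; group
      _ = _ := by group

theorem conj_dW (hR : HRel c d f r h) {i : ℕ} (hi : i < 384) :
    h * valG c d f r (dW i) * h = valG c d f r (aW i) :=
  conj_flat hR _ (idx_lt hi)

/-- The embedding of the model as a record. -/
structure Ctx (φ : MM →* G) (c d f r : G) : Prop where
  inj : Function.Injective φ
  im : φ cQ = c ∧ φ dQ = d ∧ φ fQ = f ∧ φ rQ = r

variable {φ : MM →* G}

theorem Ctx.val (C : Ctx φ c d f r) (w : List ℕ) : φ (valM w) = valG c d f r w := by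
  rw [valM, valG, map_list_prod, List.map_map]
  congr 1
  refine List.map_congr_left fun k _ => ?_
  obtain ⟨hc, hd, hf, hr⟩ := C.im
  show φ (lq k) = _
  rcases k with _ | _ | _ | _ | _ | _ | _ | k <;> simp [lq, lvG, hc, hd, hf, hr]

theorem Ctx.eq_of_same (C : Ctx φ c d f r) {u v : List ℕ} (h : same u v = true) :
    valG c d f r u = valG c d f r v := by
  rw [← C.val, ← C.val, same_iff.1 h]

theorem Ctx.same_of_eq (C : Ctx φ c d f r) {u v : List ℕ} (h : valG c d f r u = valG c d f r v) :
    same u v = true := by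
  rw [← C.val, ← C.val] at h
  exact same_iff.2 (C.inj h)

theorem Ctx.dW_mul (C : Ctx φ c d f r) {a i : ℕ} (ha : a < 384) (hi : i < 384) :
    ∃ j < 384, valG c d f r (dW a) * valG c d f r (dW i) = valG c d f r (dW j) := by
  obtain ⟨j, hj, e⟩ := flat_mul _ (idx_lt ha) i hi
  exact ⟨j, hj, by rw [← valG_append, ← C.val, ← C.val]; exact congrArg φ e⟩

theorem valG_dW_zero : valG c d f r (dW 0) = 1 := by
  rw [dW, idx_zero]; rfl

theorem Ctx.cover [Finite G] (C : Ctx φ c d f r) {z : G} (hz : z ∈ closure ({c, d, f, r} : Set G)) :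
    ∃ a < 7, ∃ k < 4, ∃ i < 384, z = valG c d f r (cosW a k) * valG c d f r (dW i) := by
  have hz' : z ∈ (closure ({c, d, f, r} : Set G)).toSubmonoid := hz
  rw [Subgroup.closure_toSubmonoid_of_finite] at hz'
  clear hz
  induction hz' using Submonoid.closure_induction_left with
  | one => exact ⟨0, by norm_num, 0, by norm_num, 0, by norm_num, by
      rw [valG_dW_zero, mul_one]; rfl⟩
  | mul_left x hx y _ ih =>
    obtain ⟨a, ha, k, hk, i, hi, rfl⟩ := ih
    obtain ⟨g, hg, rfl⟩ : ∃ g < 4, x = valG c d f r (gL g) := by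
      rcases hx with rfl | rfl | rfl | rfl
      exacts [⟨0, by norm_num, by simp [valG, gL, lvG]⟩, ⟨1, by norm_num, by simp [valG, gL, lvG]⟩,
        ⟨2, by norm_num, by simp [valG, gL, lvG]⟩, ⟨3, by norm_num, by simp [valG, gL, lvG]⟩]
    have hs := List.all_eq_true.1 (List.all_eq_true.1 (List.all_eq_true.1 step_ok g
      (List.mem_range.2 hg)) a (List.mem_range.2 ha)) k (List.mem_range.2 hk)
    simp only [Bool.and_eq_true, Nat.blt_eq] at hs
    obtain ⟨⟨⟨h0, h1⟩, h2⟩, h3⟩ := hs
    obtain ⟨j, hj, e⟩ := C.dW_mul h2 hi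
    refine ⟨_, h0, _, h1, j, hj, ?_⟩
    have e3 := C.eq_of_same h3
    rw [valG_append, valG_append] at e3
    rw [← e, ← mul_assoc, ← mul_assoc, e3]

/-- An element of the centraliser in the model. -/
def bOf (c d f r : G) (p : Fin 4 × Fin 384) : G :=
  valG c d f r (repW p.1.val) * valG c d f r (dW p.2.val)

theorem repW_commute (C : Ctx φ c d f r) {k : ℕ} (hk : k < 4) :
    c * c * valG c d f r (repW k) = valG c d f r (repW k) * (c * c) := by
  have h := comm_ok
  simp only [Bool.and_eq_true, List.all_eq_true, List.mem_range] at h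
  have := C.eq_of_same (h.1.2 k hk)
  rw [valG_append, valG_append, show valG c d f r [0, 0] = c * c by simp [valG, lvG]] at this
  exact this

theorem dW_commute (C : Ctx φ c d f r) {i : ℕ} (hi : i < 384) :
    c * c * valG c d f r (dW i) = valG c d f r (dW i) * (c * c) := by
  have hflat : ∀ ds : List ℕ, (∀ k ∈ ds, k < 7) →
      Commute (c * c) (valG c d f r (ds.flatMap dgW)) := by
    intro ds
    induction ds with
    | nil => intro _; simpa [valG] using Commute.one_right (c * c)
    | cons k ds ih =>
      intro hds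
      rw [List.flatMap_cons, valG_append]
      refine Commute.mul_right ?_ (ih fun a ha => hds a (List.mem_cons_of_mem k ha))
      have h := comm_ok
      simp only [Bool.and_eq_true, List.all_eq_true, List.mem_range] at h
      have := C.eq_of_same (h.1.1 k (hds k (List.mem_cons_self ..)))
      rw [valG_append, valG_append, show valG c d f r [0, 0] = c * c by simp [valG, lvG]] at this
      exact this
  exact hflat _ (idx_lt hi)

theorem Ctx.mem_B [Finite G] (C : Ctx φ c d f r) {z : G} (hz : z ∈ closure ({c, d, f, r} : Set G))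
    (hzt : c * c * z = z * (c * c)) : ∃ p, z = bOf c d f r p := by
  obtain ⟨a, ha, k, hk, i, hi, rfl⟩ := C.cover hz
  have hb : Commute (c * c) (valG c d f r (repW k) * valG c d f r (dW i)) :=
    Commute.mul_right (repW_commute C hk) (dW_commute C hi)
  rw [cosW, valG_append, mul_assoc (valG c d f r (List.replicate a 2))] at hzt ⊢
  have hc : Commute (c * c) (valG c d f r (List.replicate a 2)) := by
    have := Commute.mul_right (show Commute (c * c) _ from hzt) hb.inv_right
    rwa [mul_inv_cancel_right] at this
  have ha0 : a = 0 := by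
    by_contra hne
    have h := comm_ok
    simp only [Bool.and_eq_true, List.all_eq_true, List.mem_range, Bool.or_eq_true, Nat.beq_eq,
      Bool.not_eq_true'] at h
    have := (h.2 a ha).resolve_left hne
    rw [C.same_of_eq (by rw [valG_append, valG_append, show valG c d f r [0, 0] = c * c by
      simp [valG, lvG]]; exact hc)] at this
    exact Bool.noConfusion this
  subst ha0
  exact ⟨(⟨k, hk⟩, ⟨i, hi⟩), by simp [bOf, valG]⟩

theorem Ctx.bOf_injective [Finite G] (C : Ctx φ c d f r)
    (hM : Nat.card (closure ({c, d, f, r} : Set G) : Subgroup G) = 10752) :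
    Function.Injective (bOf c d f r) := by
  have hmem : ∀ w, valG c d f r w ∈ closure ({c, d, f, r} : Set G) := fun w => by
    refine Subgroup.list_prod_mem _ fun x hx => ?_
    obtain ⟨k, -, rfl⟩ := List.mem_map.1 hx
    rcases k with _ | _ | _ | _ | _ | _ | _ | k <;>
      simp only [lvG, List.getD_cons_zero, List.getD_cons_succ, List.getD_nil]
    exacts [subset_closure (by simp), inv_mem (subset_closure (by simp)), subset_closure (by simp),
      inv_mem (subset_closure (by simp)), subset_closure (by simp), inv_mem (subset_closure (by simp)),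
      subset_closure (by simp), one_mem _]
  let F : Fin 7 × Fin 4 × Fin 384 → (closure ({c, d, f, r} : Set G) : Subgroup G) := fun p =>
    ⟨valG c d f r (cosW p.1.val p.2.1.val) * valG c d f r (dW p.2.2.val),
      mul_mem (hmem _) (hmem _)⟩
  have hs : Function.Surjective F := fun z => by
    obtain ⟨a, ha, k, hk, i, hi, e⟩ := C.cover z.2
    exact ⟨(⟨a, ha⟩, ⟨k, hk⟩, ⟨i, hi⟩), Subtype.ext e.symm⟩
  have hb := (Nat.bijective_iff_surjective_and_card F).2 ⟨hs, by simp [hM]⟩
  intro p p' e
  have : F (0, p) = F (0, p') := Subtype.ext (by simpa [F, cosW, bOf] using e)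
  simpa using hb.1 this

theorem valG_rwL : valG c d f r rwL = rw' c d r := by
  simp [valG, rwL, lvG, rw', e1, e2, mul_assoc]

end Loop

open Loop

/-- **The circuit closes with one of the eight candidates.** -/
theorem exists_loop {G : Type*} [Group G] [Finite G] (hlow : 5376 < Nat.card MM) {H R M : Subgroup G}
    {c d f r h : G} (L : Loc H R M c d f r) (hR : HRel c d f r h) (hH : h ∈ H) (hM : h ∉ M) :
    ∃ n < 8, loopEl d h = h * bEl c d f r n := by
  classical
  obtain ⟨φ, hφ, hrange, hc, hd, hf, hr⟩ := L.exists_emb hlow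
  have C : Ctx φ c d f r := ⟨hφ, hc, hd, hf, hr⟩
  set V := valG c d f r with hV
  have hVM : ∀ w, V w ∈ M := fun w => by rw [hV, ← C.val, ← hrange]; exact ⟨_, rfl⟩
  have hmemH : ∀ {z : G}, z ∈ H ↔ c * c * z = z * (c * c) := by
    intro z
    rw [L.hH, mem_centralizer_singleton_iff]
    exact eq_comm
  have hcard : Nat.card (closure ({c, d, f, r} : Set G) : Subgroup G) = 10752 := L.M_eq ▸ L.card_M
  have binj := C.bOf_injective hcard
  have hB : ∀ {z : G}, z ∈ M → z ∈ H → ∃ p, z = bOf c d f r p := fun {z} h1 h2 =>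
    C.mem_B (L.M_eq ▸ h1) (hmemH.1 h2)
  have hbH : ∀ p, bOf c d f r p ∈ H := fun p =>
    mul_mem (hmemH.2 (repW_commute C p.1.2)) (hmemH.2 (dW_commute C p.2.2))
  have hbM : ∀ p, bOf c d f r p ∈ M := fun p => mul_mem (hVM _) (hVM _)
  have hd0 : ∀ i : Fin 384, bOf c d f r (0, i) = V (dW i) := fun i => by
    simp [bOf, repW, valG, hV]
  -- the only elements of `M ⊓ H` which `h` moves into `M`
  have hsh : h * rw' c d r * h ∉ M := by
    intro hin
    apply hM
    have hrM : rw' c d r ∈ M := valG_rwL (c := c) (d := d) (f := f) (r := r) ▸ hVM rwL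
    have e : h = rw' c d r * (h * rw' c d r * h)⁻¹⁻¹ * rw' c d r := by
      rw [inv_inv]
      have b := hR.braid
      rw [pow_succ, pow_succ, pow_one] at b
      calc h = h⁻¹ := (inv_eq_of_mul_eq_one_right hR.hh).symm
        _ = h⁻¹ * (h * rw' c d r * (h * rw' c d r) * (h * rw' c d r)) := by rw [b, mul_one]
        _ = _ := by group
    rw [e]
    exact mul_mem (mul_mem hrM (inv_mem (inv_mem hin))) hrM
  have hP : ∀ p : Fin 4 × Fin 384, h * bOf c d f r p * h ∈ M → p.1 = 0 := by
    rintro ⟨k, i⟩ hin
    have h1 : h * V (repW k) * h ∈ M := by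
      have := mul_mem hin (inv_mem (hVM (aW i)))
      rw [hV, ← conj_dW hR i.2] at this
      convert this using 1
      simp only [bOf, hV, mul_inv_rev, inv_eq_of_mul_eq_one_right hR.hh]
      calc _ = h * valG c d f r (repW k) *
            (valG c d f r (dW i) * (h * h) * (valG c d f r (dW i))⁻¹) * h := by rw [hR.hh]; group
        _ = _ := by group
    have hfh : h * f * h = f := hR.hf
    have hfM : f ∈ M := L.M_eq ▸ subset_closure (by simp)
    have hcons : ∀ x, h * (f * x) * h ∈ M → h * x * h ∈ M := fun x hx => by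
      have e : h * (f * x) * h = f * (h * x * h) := by
        calc h * (f * x) * h = h * f * (h * h) * x * h := by rw [hR.hh, mul_one]; group
          _ = h * f * h * (h * x * h) := by group
          _ = _ := by rw [hfh]
      rw [e] at hx
      exact (M.mul_mem_cancel_left hfM).1 hx
    have hlf : lvG c d f r 4 = f := rfl
    fin_cases k
    · rfl
    · exact absurd (by simpa [repW, hV, valG_rwL] using h1) hsh
    · exact absurd (hcons _ (by simpa [repW, hV, valG_cons, valG_rwL, hlf] using h1)) hsh
    · exact absurd (hcons _ (hcons _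
        (by simpa [repW, hV, valG_cons, valG_rwL, hlf, mul_assoc] using h1))) hsh
  -- the five cosets
  let Ψ : (Fin 4 × Fin 384) ⊕ (Fin 4 × (Fin 4 × Fin 384)) → ↥H := fun x => match x with
    | .inl p => ⟨bOf c d f r p, hbH p⟩
    | .inr (k, p) => ⟨V (repW k) * h * bOf c d f r p,
        mul_mem (mul_mem (hmemH.2 (repW_commute C k.2)) hH) (hbH p)⟩
  have hnot : ∀ (k : Fin 4) (p q : Fin 4 × Fin 384),
      V (repW k) * h * bOf c d f r p ≠ bOf c d f r q := fun k p q e => by
    apply hM
    have : h = (V (repW k))⁻¹ * bOf c d f r q * (bOf c d f r p)⁻¹ := by rw [← e]; group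
    rw [this]
    exact mul_mem (mul_mem (inv_mem (hVM _)) (hbM q)) (inv_mem (hbM p))
  have hΨ : Function.Injective Ψ := by
    rintro (p | ⟨k, p⟩) (q | ⟨l, q⟩) e
    · exact congrArg Sum.inl (binj (congrArg Subtype.val e))
    · exact absurd (congrArg Subtype.val e).symm (hnot l q p)
    · exact absurd (congrArg Subtype.val e) (hnot k p q)
    · have e' : V (repW k) * h * bOf c d f r p = V (repW l) * h * bOf c d f r q := congrArg Subtype.val e
      have hz : h * ((V (repW l))⁻¹ * V (repW k)) * h = bOf c d f r q * (bOf c d f r p)⁻¹ := by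
        calc _ = h * (V (repW l))⁻¹ * (V (repW k) * h * bOf c d f r p) * (bOf c d f r p)⁻¹ := by group
          _ = h * h * bOf c d f r q * (bOf c d f r p)⁻¹ := by rw [e']; group
          _ = _ := by rw [hR.hh, one_mul]
      obtain ⟨m, hm⟩ := hB (mul_mem (inv_mem (hVM (repW l))) (hVM (repW k)))
        (mul_mem (inv_mem (hmemH.2 (repW_commute C l.2))) (hmemH.2 (repW_commute C k.2)))
      have hm0 := hP m (by rw [← hm, hz]; exact mul_mem (hbM q) (inv_mem (hbM p)))
      have hk : V (repW k) = V (repW l) * V (dW m.2) := by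
        have : (m : Fin 4 × Fin 384) = (0, m.2) := Prod.ext hm0 rfl
        rw [this, hd0] at hm
        rw [← hm, mul_inv_cancel_left]
      have hkl : (k, (0 : Fin 384)) = (l, m.2) := binj (by
        show V (repW k) * valG c d f r (dW ((0 : Fin 384) : ℕ)) = _
        rw [Fin.val_zero, valG_dW_zero, mul_one, hk]; rfl)
      obtain rfl := (Prod.ext_iff.1 hkl).1
      exact congrArg (fun x => Sum.inr (k, x)) (binj (mul_left_cancel e'))
  have hsurj := ((Nat.bijective_iff_injective_and_card Ψ).2 ⟨hΨ, by simp [L.card_H]⟩).2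
  -- the element
  have hi : h⁻¹ = h := inv_eq_of_mul_eq_one_right hR.hh
  set u := loopEl d h with hu
  have huu : u * u = 1 := by
    simp only [hu, loopEl]
    calc _ = (d * h * d * d)⁻¹ * (h * h) * (d * h * d * d) := by group
      _ = 1 := by rw [hR.hh]; group
  have hy : ∀ j < 2, u * V (yW j) = V (ypW j) * u := by
    intro j hj
    have hc := List.all_eq_true.1 chain_ok j (List.mem_range.2 hj)
    simp only [Bool.and_eq_true, Nat.blt_eq] at hc
    obtain ⟨⟨⟨⟨⟨l0, l1⟩, l2⟩, c0⟩, c1⟩, c2⟩ := hc
    have g0 := C.eq_of_same c0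
    have g1 := C.eq_of_same c1
    have g2 := C.eq_of_same c2
    have a0 := conj_dW hR l0
    have a1 := conj_dW hR l1
    have a2 := conj_dW hR l2
    have w2 : valG c d f r [2] = d := by simp [valG, lvG]
    have w3 : valG c d f r [3] = d⁻¹ := by simp [valG, lvG]
    have w22 : valG c d f r [2, 2] = d * d := by simp [valG, lvG]
    have w33 : valG c d f r [3, 3] = d⁻¹ * d⁻¹ := by simp [valG, lvG]
    simp only [valG_append, w2, w3, w22, w33] at g0 g1 g2
    have e : u * V (yW j) * u⁻¹ = V (ypW j) := by
      calc u * V (yW j) * u⁻¹ = d⁻¹ * d⁻¹ * (h * (d⁻¹ * (h * (d * (h * (d * d * V (yW j) *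
            (d⁻¹ * d⁻¹)) * h) * d⁻¹) * h) * d) * h) * (d * d) := by
            simp only [hu, loopEl, mul_inv_rev, hi, inv_inv]; group
        _ = _ := by
            simp only [hV, ypW, valG_append, w22, w33]
            rw [g0, a0, g1, a1, g2, a2]
    rw [← e, inv_mul_cancel_right]
  have huH : u ∈ H := by
    refine hmemH.2 ?_
    have hy2 := hR.toMRel
    have e1' : same ([2, 2, 0, 0, 3, 3]) (dgW 4) = true := by decide +kernel
    have e2' : same ([2] ++ agW 4 ++ [3]) [6, 4] = true := by decide +kernel
    have g1 := C.eq_of_same e1'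
    have g2 := C.eq_of_same e2'
    have a := conj_flat hR [4] (by simp)
    simp only [List.flatMap_cons, List.flatMap_nil, List.append_nil] at a
    rw [valG_append, valG_append] at g2
    have hg : d * h * d * d * (c * c) * (d * h * d * d)⁻¹ = r * f := by
      calc _ = d * (h * (valG c d f r [2, 2, 0, 0, 3, 3]) * h) * d⁻¹ := by
            simp only [valG, lvG, List.map_cons, List.map_nil, List.prod_cons, List.prod_nil,
              List.getD_cons_zero, List.getD_cons_succ, mul_one, mul_inv_rev, hi]
            group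
        _ = valG c d f r [2] * valG c d f r (agW 4) * valG c d f r [3] := by
            rw [g1, a]; simp [valG, lvG]
        _ = _ := by rw [g2]; simp [valG, lvG]
    have hcomm : Commute h (r * f) := by
      show h * (r * f) = r * f * h
      calc h * (r * f) = h * r * (h * h) * f * (h * h) := by rw [hR.hh]; group
        _ = (h * r * h) * (h * f * h) * h := by group
        _ = _ := by rw [hR.hr, hR.hf]
    set g := d * h * d * d
    have hug : u = g⁻¹ * h * g := rfl
    calc c * c * u = g⁻¹ * (g * (c * c) * g⁻¹ * h) * g := by rw [hug]; group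
      _ = g⁻¹ * (h * (g * (c * c) * g⁻¹)) * g := by rw [hg, hcomm.eq]
      _ = u * (c * c) := by rw [hug]; group
  have hsq : ∀ {w : List ℕ}, u = V w → same (w ++ w) [] = true := fun {w} e =>
    C.same_of_eq (by rw [valG_append, ← hV, ← e, huu]; rfl)
  obtain ⟨x, hx⟩ := hsurj ⟨u, huH⟩
  rcases x with ⟨k, i⟩ | ⟨k, p⟩
  · exfalso
    have e : u = V (repW k ++ dW i) := by
      rw [hV, valG_append]; exact (congrArg Subtype.val hx).symm
    have h0 := List.all_eq_true.1 (List.all_eq_true.1 inB_ok k (List.mem_range.2 k.2)) i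
      (List.mem_range.2 i.2)
    have key : ∀ j < 2, same (repW k ++ dW i ++ yW j) (ypW j ++ (repW k ++ dW i)) = true := fun j hj =>
      C.same_of_eq (by rw [valG_append, valG_append (ypW j), ← hV, ← e]; exact hy j hj)
    rw [key 0 (by norm_num), key 1 (by norm_num), hsq e] at h0
    exact Bool.noConfusion h0
  · have e : u = V (repW k) * h * bOf c d f r p := (congrArg Subtype.val hx).symm
    have hrepH := hmemH.2 (repW_commute C k.2)
    -- `b * rep` is inverted by `h`
    have hbr : h * (bOf c d f r p * V (repW k)) * h = (V (repW k))⁻¹ * (bOf c d f r p)⁻¹ := by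
      have := huu
      rw [e] at this
      calc _ = (V (repW k))⁻¹ * (V (repW k) * h * bOf c d f r p * (V (repW k) * h * bOf c d f r p)) *
            (bOf c d f r p)⁻¹ := by group
        _ = _ := by rw [this, mul_one]
    obtain ⟨⟨m, i⟩, hm⟩ := hB (mul_mem (hbM p) (hVM (repW k))) (mul_mem (hbH p) hrepH)
    obtain rfl : m = 0 := hP (m, i) (by
      rw [← hm, hbr]; exact mul_mem (inv_mem (hVM _)) (inv_mem (hbM p)))
    rw [hd0] at hm
    have hainv : same (aW i ++ dW i) [] = true := C.same_of_eq (by
      rw [valG_append, ← conj_dW hR i.2, ← hV, ← hm, hbr]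
      rw [show V [] = 1 from rfl]
      group)
    have hinvk : (V (repW k))⁻¹ = V (invW (repW k)) := by
      have := C.eq_of_same (List.all_eq_true.1 inv_ok k (List.mem_range.2 k.2))
      rw [valG_append] at this
      exact inv_eq_of_mul_eq_one_right (this.trans rfl)
    have hb : bOf c d f r p = V (dW i ++ invW (repW k)) := by
      rw [hV, valG_append, ← hV, ← hm, ← hinvk, mul_inv_cancel_right]
    have key : ∀ j < 2, jI k j < 384 ∧
        same (dW i ++ invW (repW k) ++ yW j) (aW (jI k j) ++ (dW i ++ invW (repW k))) = true := by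
      intro j hj
      set b := bOf c d f r p
      have hyc := C.eq_of_same (List.all_eq_true.1 yW_mem j (List.mem_range.2 hj))
      have hyH : V (yW j) ∈ H := by
        refine hmemH.2 ?_
        rw [valG_append, valG_append, show valG c d f r [0, 0] = c * c by simp [valG, lvG]] at hyc
        exact hyc
      have hkey : h * (b * V (yW j) * b⁻¹) * h = (V (repW k))⁻¹ * V (ypW j) * V (repW k) := by
        have := hy j hj
        rw [e] at this
        calc _ = (V (repW k))⁻¹ * (V (repW k) * h * b * V (yW j)) * b⁻¹ * h := by group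
          _ = (V (repW k))⁻¹ * V (ypW j) * V (repW k) * (h * h) := by rw [this]; group
          _ = _ := by rw [hR.hh, mul_one]
      obtain ⟨⟨m, q⟩, hq⟩ := hB (mul_mem (mul_mem (hbM p) (hVM (yW j))) (inv_mem (hbM p)))
        (mul_mem (mul_mem (hbH p) hyH) (inv_mem (hbH p)))
      obtain rfl : m = 0 := hP (m, q) (by
        rw [← hq, hkey]; exact mul_mem (mul_mem (inv_mem (hVM _)) (hVM _)) (hVM _))
      rw [hd0] at hq
      have hx' : V (invW (repW k) ++ ypW j ++ repW k) = V (aW q) := by
        rw [hV, valG_append, valG_append, ← hV, ← hinvk, ← hkey, hq]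
        exact conj_dW hR q.2
      obtain ⟨⟨m, s⟩, hs⟩ := hB (hVM (aW q)) (by
        rw [hV, ← conj_dW hR q.2]
        exact mul_mem (mul_mem hH (hmemH.2 (dW_commute C q.2))) hH)
      obtain rfl : m = 0 := hP (m, s) (by
        rw [← hs, hV, ← conj_dW hR q.2]
        have e' : ∀ z : G, h * (h * z * h) * h = z := fun z => by
          calc h * (h * z * h) * h = h * h * z * (h * h) := by group
            _ = z := by rw [hR.hh, one_mul, mul_one]
        rw [e']; exact hVM _)
      rw [hd0] at hs
      have hj' := List.all_eq_true.1 (List.all_eq_true.1 (List.all_eq_true.1 jI_ok k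
        (List.mem_range.2 k.2)) j (List.mem_range.2 hj)) s (List.mem_range.2 s.2)
      simp only [C.same_of_eq (hx'.trans hs), Bool.not_true, Bool.false_or, Nat.beq_eq] at hj'
      refine ⟨hj' ▸ s.2, C.same_of_eq ?_⟩
      rw [valG_append (dW i ++ invW (repW k)), valG_append (aW (jI k j)), ← hV, ← hb, hj']
      -- `b y b⁻¹` is the image of `rep⁻¹ y' rep`
      have : h * V (aW q) * h = b * V (yW j) * b⁻¹ := by
        rw [hq, hV, ← conj_dW hR q.2]
        calc h * (h * valG c d f r (dW q) * h) * h = h * h * valG c d f r (dW q) * (h * h) := by group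
          _ = _ := by rw [hR.hh, one_mul, mul_one]
      rw [hs, hV, conj_dW hR s.2] at this
      rw [hV, this, ← hV, inv_mul_cancel_right]
    have h0 := List.all_eq_true.1 (List.all_eq_true.1 out_ok k (List.mem_range.2 k.2)) i
      (List.mem_range.2 i.2)
    obtain ⟨j0, s0⟩ := key 0 (by norm_num)
    obtain ⟨j1, s1⟩ := key 1 (by norm_num)
    have b0 : Nat.blt (jI k 0) 384 = true := by rw [Nat.blt_eq]; exact j0
    have b1 : Nat.blt (jI k 1) 384 = true := by rw [Nat.blt_eq]; exact j1
    simp only [b0, b1, hainv, s0, s1, Bool.and_self, Bool.not_true,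
      Bool.false_or, Bool.and_eq_true, Nat.beq_eq, List.any_eq_true, List.mem_range] at h0
    obtain ⟨hk0, n, hn, hs⟩ := h0
    refine ⟨n, hn, ?_⟩
    have hk1 : V (repW k) = 1 := by rw [hk0]; rfl
    rw [e, hk1, one_mul, hb, hV, valG_append, ← hV, ← hinvk, hk1, inv_one, mul_one, hV,
      C.eq_of_same hs]
    rfl

end Cfsg.Agent.HSRecog
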