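import Cfsg.Agent.HSRecog.Bound
import Cfsg.Agent.HSRecog.HSide
import Cfsg.Agent.HSRecog.Loop
import Cfsg.Agent.HSRecog.Ident
import Cfsg.Prelude.Def_Spor_Conway

/-!
The two local subgroups give the relations of the Higman-Sims group, and their generators contain the centraliser.
-/

set_option autoImplicit false

namespace Cfsg.Agent.HSRecog

open Subgroup

namespace FinalLoc

variable {G : Type*} [Group G]

theorem hrel_sub {c d f r h : G} {K : Subgroup G} (hc : c ∈ K) (hd : d ∈ K) (hf : f ∈ K) (hr : r ∈ K)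
    (hh : h ∈ K) (R : HRel c d f r h) :
    HRel (⟨c, hc⟩ : K) ⟨d, hd⟩ ⟨f, hf⟩ ⟨r, hr⟩ ⟨h, hh⟩ := by
  exact
    { c4 := Subtype.ext R.c4, cc := Subtype.ext R.cc, cc2 := Subtype.ext R.cc2, poly := Subtype.ext R.poly,
      d7 := Subtype.ext R.d7, f3 := Subtype.ext R.f3, fd := Subtype.ext R.fd, fc := Subtype.ext R.fc,
      rr := Subtype.ext R.rr, rc := Subtype.ext R.rc, re := Subtype.ext R.re, rf := Subtype.ext R.rf,
      rd := Subtype.ext R.rd, hh := Subtype.ext R.hh, hc := Subtype.ext R.hc, hr := Subtype.ext R.hr,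
      hf := Subtype.ext R.hf, hv := Subtype.ext R.hv, braid := Subtype.ext R.braid }

theorem closure_sub {c d f r h : G} :
    Subgroup.closure (genSet (⟨c, subset_closure (by simp [genSet])⟩ : closure (genSet c d f r h))
      ⟨d, subset_closure (by simp [genSet])⟩ ⟨f, subset_closure (by simp [genSet])⟩
      ⟨r, subset_closure (by simp [genSet])⟩ ⟨h, subset_closure (by simp [genSet])⟩) = ⊤ := by
  apply Subgroup.map_injective (closure (genSet c d f r h)).subtype_injective
  rw [MonoidHom.map_closure, ← MonoidHom.range_eq_map, Subgroup.range_subtype]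
  congr 1
  refine Set.ext fun x => ⟨?_, ?_⟩
  · rintro ⟨y, rfl | rfl | rfl | rfl | rfl, rfl⟩
    exacts [Or.inl rfl, Or.inr (Or.inl rfl), Or.inr (Or.inr (Or.inl rfl)), Or.inr (Or.inr (Or.inr (Or.inl rfl))),
      Or.inr (Or.inr (Or.inr (Or.inr rfl)))]
  · rintro (rfl | rfl | rfl | rfl | rfl)
    exacts [⟨_, Or.inl rfl, rfl⟩, ⟨_, Or.inr (Or.inl rfl), rfl⟩, ⟨_, Or.inr (Or.inr (Or.inl rfl)), rfl⟩,
      ⟨_, Or.inr (Or.inr (Or.inr (Or.inl rfl))), rfl⟩, ⟨_, Or.inr (Or.inr (Or.inr (Or.inr rfl))), rfl⟩]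

theorem map_bEl {A : Type*} [Group A] (ψ : A →* G) (a b e u : A) (n : ℕ) :
    ψ (bEl a b e u n) = bEl (ψ a) (ψ b) (ψ e) (ψ u) n := by
  rw [bEl, bEl, map_list_prod, List.map_map]
  refine congrArg List.prod (List.map_congr_left fun k _ => ?_)
  rcases k with _ | _ | _ | _ | _ | _ | _ | k <;> simp [lvG]

/-- The candidates other than the last one put `h` into the first parabolic. -/
theorem loop_seven [Finite G] {c d f r h : G} {M : Subgroup G} (hM : M = closure ({c, d, f, r} : Set G))
    (hR : HRel c d f r h) (hnm : h ∉ M) {n : ℕ} (hn : n < 8)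
    (hloop : loopEl d h = h * bEl c d f r n) : HSRel c d f r h := by
  by_cases h7 : n = 7
  · subst h7
    exact { hR with loop := by rw [hloop, bEl_seven hR.toMRel] }
  · exfalso
    set K := closure (genSet c d f r h) with hK
    have hc : c ∈ K := subset_closure (by simp [genSet])
    have hd : d ∈ K := subset_closure (by simp [genSet])
    have hf : f ∈ K := subset_closure (by simp [genSet])
    have hr : r ∈ K := subset_closure (by simp [genSet])
    have hh : h ∈ K := subset_closure (by simp [genSet])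
    have hl : loopEl (⟨d, hd⟩ : K) ⟨h, hh⟩ =
        ⟨h, hh⟩ * bEl (⟨c, hc⟩ : K) ⟨d, hd⟩ ⟨f, hf⟩ ⟨r, hr⟩ n := by
      apply K.subtype_injective
      rw [map_mul, map_bEl]
      exact hloop
    have hm := collapse (by omega) (hrel_sub hc hd hf hr hh hR) hl closure_sub
    have hm' : K.subtype ⟨h, hh⟩ ∈ (closure ({⟨c, hc⟩, ⟨d, hd⟩, ⟨f, hf⟩, ⟨r, hr⟩} : Set K)).map K.subtype :=
      mem_map_of_mem _ hm
    rw [MonoidHom.map_closure, Set.image_insert_eq, Set.image_insert_eq, Set.image_insert_eq,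
      Set.image_singleton] at hm'
    exact hnm (by rw [hM]; exact hm')

/-- The centraliser lies in the group generated by the five elements. -/
theorem centralizer_le [Finite G] (hlow : 5376 < Nat.card MM) {H R M : Subgroup G} {c d f r h : G}
    (L : Loc H R M c d f r) (hH : h ∈ H) (hM : h ∉ M) : H ≤ closure (genSet c d f r h) := by
  classical
  obtain ⟨φ, hinj, -, hc, hd, hf, hr⟩ := L.exists_emb hlow
  have C : Loop.Ctx φ c d f r := ⟨hinj, hc, hd, hf, hr⟩
  set K := closure (genSet c d f r h)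
  have hMK : M ≤ K := by
    rw [L.M_eq]
    exact closure_mono (by intro x; simp only [genSet, Set.mem_insert_iff, Set.mem_singleton_iff]; tauto)
  have hvalM : ∀ w, Loop.valG c d f r w ∈ M := fun w => by
    rw [L.M_eq]
    refine Subgroup.list_prod_mem _ fun x hx => ?_
    obtain ⟨k, -, rfl⟩ := List.mem_map.1 hx
    rcases k with _ | _ | _ | _ | _ | _ | _ | k <;>
      simp only [lvG, List.getD_cons_zero, List.getD_cons_succ, List.getD_nil]
    exacts [subset_closure (by simp), inv_mem (subset_closure (by simp)), subset_closure (by simp),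
      inv_mem (subset_closure (by simp)), subset_closure (by simp), inv_mem (subset_closure (by simp)),
      subset_closure (by simp), one_mem _]
  have hmemH : ∀ {z : G}, c * c * z = z * (c * c) → z ∈ H := fun {z} e => by
    rw [L.hH, mem_centralizer_singleton_iff]
    exact e.symm
  have hb : ∀ p, Loop.bOf c d f r p ∈ M ⊓ H := fun p =>
    ⟨mul_mem (hvalM _) (hvalM _),
      mul_mem (hmemH (Loop.repW_commute C p.1.2)) (hmemH (Loop.dW_commute C p.2.2))⟩
  have hcard : 1536 ≤ Nat.card ↥(M ⊓ H) := by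
    have hi : Function.Injective fun p => (⟨_, hb p⟩ : ↥(M ⊓ H)) := fun p p' e =>
      C.bOf_injective (L.M_eq ▸ L.card_M) (congrArg Subtype.val e)
    have := Nat.card_le_card_of_injective _ hi
    rw [Nat.card_prod, Nat.card_fin, Nat.card_fin] at this
    exact this
  have hle : M ⊓ H ≤ K ⊓ H := inf_le_inf_right H hMK
  have hne : M ⊓ H ≠ K ⊓ H := fun e => hM (show h ∈ M ⊓ H from e ▸ ⟨subset_closure (by simp [genSet]), hH⟩).1
  have h1 : Nat.card ↥(M ⊓ H) = 1536 := by
    have d1 : Nat.card ↥(M ⊓ H) ∣ 10752 := L.card_M ▸ card_dvd_of_le inf_le_left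
    have d2 : Nat.card ↥(M ⊓ H) ∣ 7680 := L.card_H ▸ card_dvd_of_le inf_le_right
    have := Nat.le_of_dvd (by norm_num) (Nat.dvd_gcd d1 d2)
    rw [show Nat.gcd 10752 7680 = 1536 by norm_num] at this
    omega
  obtain ⟨k, hk⟩ : Nat.card ↥(M ⊓ H) ∣ Nat.card ↥(K ⊓ H) := card_dvd_of_le hle
  have h2 : Nat.card ↥(K ⊓ H) ∣ 7680 := L.card_H ▸ card_dvd_of_le inf_le_right
  rw [h1] at hk
  rw [hk, show (7680 : ℕ) = 1536 * 5 by norm_num, Nat.mul_dvd_mul_iff_left (by norm_num)] at h2
  rcases (Nat.dvd_prime (by norm_num)).1 h2 with rfl | rfl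
  · exact absurd (eq_of_le_of_card_ge hle (by omega)) hne
  · have : K ⊓ H = H := eq_of_le_of_card_ge inf_le_right (by rw [L.card_H]; omega)
    exact this ▸ inf_le_left

/-- The five elements and what is known about them. -/
theorem exists_hsRel [Finite G] {H R M : Subgroup G} {c d f r : G} (L : Loc H R M c d f r) :
    ∃ r' h : G, HSRel c d f r' h ∧ orderOf (c * c) = 2 ∧
      centralizer ({c * c} : Set G) ≤ closure (genSet c d f r' h) ∧
      Nat.card (centralizer ({c * c} : Set G)) = 7680 := by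
  obtain ⟨r', h, L', hR, hH, hM⟩ := exists_h Cert7.low L
  obtain ⟨n, hn, hloop⟩ := exists_loop Cert7.low L' hR hH hM
  exact ⟨r', h, loop_seven L'.M_eq hR hM hn hloop, L'.order_t,
    L'.hH ▸ centralizer_le Cert7.low L' hH hM, L'.hH ▸ L'.card_H⟩

end FinalLoc

universe u

/-- The Higman-Sims group, given that the five elements generate. -/
theorem isoHS_of_loc_of_top {G : Type u} [Group G] [Finite G] {H R M : Subgroup G} {c d f r : G}
    (L : Loc H R M c d f r)
    (top : ∀ {d' f' r' h : G}, HSRel c d' f' r' h → orderOf (c * c) = 2 →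
      centralizer ({c * c} : Set G) ≤ closure (genSet c d' f' r' h) →
      Nat.card (centralizer ({c * c} : Set G)) = 7680 → closure (genSet c d' f' r' h) = ⊤) :
    Cfsg.Spor.IsoHS G := by
  obtain ⟨r', h, hR, ho, hle, hcard⟩ := FinalLoc.exists_hsRel L
  refine isoHS_of_rel hR (top hR ho hle hcard) ?_ fun X _ _ c d f r h hX hg => card_le X c d f r h hX hg
  intro e
  rw [e, orderOf_one] at ho
  exact absurd ho (by norm_num)

end Cfsg.Agent.HSRecog
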