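import Cfsg.Agent.HSRecog.CModel

/-!
The interface between the two local subgroups and the amalgam.
-/

set_option autoImplicit false

namespace Cfsg.Agent.HSRecog

open Subgroup

variable {G : Type*} [Group G]

/-- The generators of the normal subgroup of order 64 of the centraliser. -/
def rSet (c d f r : G) : Set G :=
  {c, e1 c d * e1 c d, e2 c d * e2 c d, a1 d r, f * a1 d r * f⁻¹}

/-- The centraliser `H` of `c * c`, its normal subgroup `R` of order 64 and the second local `M`,
with the standard generators of `M`. -/
structure Loc (H R M : Subgroup G) (c d f r : G) : Prop where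
  rel : MRel c d f r
  hH : H = centralizer ({c * c} : Set G)
  order_t : orderOf (c * c) = 2
  R_eq : R = closure (rSet c d f r)
  card_R : Nat.card R = 64
  card_H : Nat.card H = 7680
  normal_R : H ≤ normalizer (R : Set G)
  quot : ∃ π : ↥H →* Equiv.Perm (Fin 5), Function.Surjective π ∧ π.ker = R.subgroupOf H
  M_eq : M = closure ({c, d, f, r} : Set G)
  card_M : Nat.card M = 10752

/-- The model is embedded onto `M`. -/
theorem Loc.exists_emb [Finite G] (hlow : 5376 < Nat.card MM) {H R M : Subgroup G} {c d f r : G}
    (L : Loc H R M c d f r) :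
    ∃ φ : MM →* G, Function.Injective φ ∧ φ.range = M ∧ φ cQ = c ∧ φ dQ = d ∧ φ fQ = f ∧ φ rQ = r := by
  obtain ⟨φ, hc, hd, hf, hr⟩ := exists_hom hlow L.rel
  have hrange : φ.range = M := by
    rw [MonoidHom.range_eq_map, ← closure_MM, MonoidHom.map_closure, Set.image_insert_eq,
      Set.image_insert_eq, Set.image_insert_eq, Set.image_singleton, hc, hd, hf, hr, L.M_eq]
  refine ⟨φ, ?_, hrange, hc, hd, hf, hr⟩
  have hs := φ.rangeRestrict_surjective
  have hle : Nat.card φ.range ≤ Nat.card MM := Nat.card_le_card_of_surjective _ hs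
  have hcard : Nat.card MM = Nat.card φ.range := by
    have h1 := card_MM_le
    have h2 : Nat.card φ.range = 10752 := by rw [hrange, L.card_M]
    omega
  have hb := (Nat.bijective_iff_surjective_and_card φ.rangeRestrict).2 ⟨hs, hcard⟩
  intro a b e
  exact hb.1 (Subtype.ext e)

end Cfsg.Agent.HSRecog
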