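import Cfsg.Agent.HSRecog.MBound

/-!
Normal forms in a group with the relations of an extension of `4^3` by `L₃(2)` whose two lifting parameters
are not yet known, and a right multiplication on them.
-/

set_option autoImplicit false
set_option maxRecDepth 100000
set_option linter.all false

namespace Cfsg.Agent.HSRecog.Machine

open Cfsg.Agent.HSRecog.MRel (nfW)

/-- Coordinates in the abelian normal subgroup. -/
abbrev V4 : Type := Fin 4 × Fin 4 × Fin 4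

/-- Conjugation by `d`. -/
def dV (v : V4) : V4 := (v.2.2, v.1 + 3 * v.2.2, v.2.1 + 2 * v.2.2)

/-- Conjugation by `d ^ n`. -/
def dP : ℕ → V4 → V4
  | 0, v => v
  | n + 1, v => dV (dP n v)

/-- The image of `e2` under conjugation by `f`. -/
def fV (v : V4) : V4 :=
  let u := dP 4 (1, 0, 0)
  (v.1 + v.2.2 * u.1, v.2.2 * u.2.1, v.2.1 + v.2.2 * u.2.2)

/-- Conjugation by `f ^ n`. -/
def fP : ℕ → V4 → V4
  | 0, v => v
  | n + 1, v => fV (fP n v)

/-- Conjugation by `r`. -/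
def rV (v : V4) : V4 := (-v.1, v.2.2, v.2.1)

theorem two_mul_facts : ∀ ε : Fin 4, ((2 * ε, 0, 0) + (2 * ε, 0, 0) : V4) = 0 ∧
    (-(2 * ε, 0, 0) : V4) = (2 * ε, 0, 0) ∧ rV (2 * ε, 0, 0) = (2 * ε, 0, 0) := by
  decide +kernel

section W

variable {G : Type*} [Group G]

/-- The relations of the abelian normal subgroup under `d`. -/
structure Wd (c d : G) : Prop where
  c4 : c ^ 4 = 1
  cc : c * e1 c d = e1 c d * c
  cc2 : c * e2 c d = e2 c d * c
  poly : d * e2 c d * d⁻¹ = c * e1 c d ^ 3 * e2 c d ^ 2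
  d7 : d ^ 7 = 1

variable {c d : G} (h : Wd c d)
include h

theorem Wd.cc12 : e1 c d * e2 c d = e2 c d * e1 c d := by
  have e : e2 c d = d * e1 c d * d⁻¹ := by simp only [e1, e2]; group
  calc e1 c d * e2 c d = d * (c * e1 c d) * d⁻¹ := by rw [e]; simp only [e1]; group
    _ = d * (e1 c d * c) * d⁻¹ := by rw [h.cc]
    _ = e2 c d * e1 c d := by rw [e]; simp only [e1]; group

theorem Wd.pow4 {x : G} (hx : x ^ 4 = 1) (n : ℕ) : x ^ n = x ^ (n % 4) := by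
  conv_lhs => rw [← Nat.div_add_mod n 4, pow_add, pow_mul, hx, one_pow, one_mul]

theorem Wd.nf_mul (a b : V4) : nfW c d a * nfW c d b = nfW c d (a + b) := by
  obtain ⟨i, j, k⟩ := a
  obtain ⟨i', j', k'⟩ := b
  have k1 : Commute c (e1 c d) := h.cc
  have k2 : Commute c (e2 c d) := h.cc2
  have k12 : Commute (e1 c d) (e2 c d) := h.cc12
  have h14 : e1 c d ^ 4 = 1 := by rw [e1, conj_pow, h.c4, mul_one, mul_inv_cancel]
  have h24 : e2 c d ^ 4 = 1 := by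
    rw [show e2 c d = (d * d) * c * (d * d)⁻¹ by simp only [e2]; group, conj_pow, h.c4, mul_one,
      mul_inv_cancel]
  simp only [nfW, Prod.mk_add_mk, Fin.val_add]
  rw [← h.pow4 h.c4, ← h.pow4 h14, ← h.pow4 h24, pow_add, pow_add, pow_add]
  calc c ^ (i : ℕ) * e1 c d ^ (j : ℕ) * e2 c d ^ (k : ℕ) *
        (c ^ (i' : ℕ) * e1 c d ^ (j' : ℕ) * e2 c d ^ (k' : ℕ))
      = c ^ (i : ℕ) * e1 c d ^ (j : ℕ) * (e2 c d ^ (k : ℕ) * c ^ (i' : ℕ)) * e1 c d ^ (j' : ℕ) *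
          e2 c d ^ (k' : ℕ) := by group
    _ = c ^ (i : ℕ) * (e1 c d ^ (j : ℕ) * c ^ (i' : ℕ)) * (e2 c d ^ (k : ℕ) * e1 c d ^ (j' : ℕ)) *
          e2 c d ^ (k' : ℕ) := by rw [← (k2.pow_pow (i' : ℕ) (k : ℕ)).eq]; group
    _ = c ^ (i : ℕ) * c ^ (i' : ℕ) * (e1 c d ^ (j : ℕ) * e1 c d ^ (j' : ℕ)) *
          (e2 c d ^ (k : ℕ) * e2 c d ^ (k' : ℕ)) := by
      rw [← (k1.pow_pow (i' : ℕ) (j : ℕ)).eq, ← (k12.pow_pow (j' : ℕ) (k : ℕ)).eq]; group

/-- Coordinates as a homomorphism. -/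
def Wd.hom : Multiplicative V4 →* G where
  toFun v := nfW c d (Multiplicative.toAdd v)
  map_one' := by simp [nfW]
  map_mul' a b := (h.nf_mul _ _).symm

theorem Wd.nf_zero : nfW c d (0 : V4) = 1 := h.hom.map_one

theorem Wd.nf_neg (a : V4) : nfW c d (-a) = (nfW c d a)⁻¹ := h.hom.map_inv (Multiplicative.ofAdd a)

theorem Wd.nf_nsmul (n : ℕ) (a : V4) : nfW c d (n • a) = nfW c d a ^ n :=
  h.hom.map_pow (Multiplicative.ofAdd a) n

/-- A conjugation in coordinates, from its values on the generators. -/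
theorem Wd.conj_of {u : G} {φ : V4 → V4} (hφ : ∀ v : V4,
      φ v = (v.1 : ℕ) • φ (1, 0, 0) + (v.2.1 : ℕ) • φ (0, 1, 0) + (v.2.2 : ℕ) • φ (0, 0, 1))
    (h0 : u * c * u⁻¹ = nfW c d (φ (1, 0, 0))) (h1 : u * e1 c d * u⁻¹ = nfW c d (φ (0, 1, 0)))
    (h2 : u * e2 c d * u⁻¹ = nfW c d (φ (0, 0, 1))) (v : V4) :
    u * nfW c d v * u⁻¹ = nfW c d (φ v) := by
  rw [hφ v, ← h.nf_mul, ← h.nf_mul, h.nf_nsmul, h.nf_nsmul, h.nf_nsmul, ← h0, ← h1, ← h2, conj_pow,
    conj_pow, conj_pow]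
  simp only [nfW]; group

theorem Wd.conj_d (v : V4) : d * nfW c d v * d⁻¹ = nfW c d (dV v) :=
  h.conj_of (by decide +kernel) (by simp [nfW, dV, e1]) (by simp [nfW, dV, e1, e2, mul_assoc])
    (by rw [h.poly]; simp [nfW, dV]) v

theorem Wd.conj_dpow (n : ℕ) (v : V4) : d ^ n * nfW c d v * (d ^ n)⁻¹ = nfW c d (dP n v) := by
  induction n with
  | zero => simp [dP]
  | succ n ih =>
    rw [dP, ← h.conj_d, ← ih, pow_succ']
    group

theorem Wd.dpow_nf (n : ℕ) (v : V4) : d ^ n * nfW c d v = nfW c d (dP n v) * d ^ n := by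
  rw [← h.conj_dpow n v]; group

theorem Wd.dmod (n : ℕ) : d ^ n = d ^ (n % 7) := by
  conv_lhs => rw [← Nat.div_add_mod n 7, pow_add, pow_mul, h.d7, one_pow, one_mul]

end W

/-- The relations with the parameters `ε` and `b`. -/
structure Pre {G : Type*} [Group G] (c d f r : G) (ε b : Fin 4) : Prop extends Wd c d where
  f3 : f ^ 3 = 1
  fd : f * d * f⁻¹ = d * d
  fc : f * c * f⁻¹ = c
  rc : r * c * r⁻¹ = c⁻¹
  re : r * e1 c d * r⁻¹ = e2 c d
  re2 : r * e2 c d * r⁻¹ = e1 c d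
  rf : r * f * r⁻¹ = f⁻¹
  rr : r * r = nfW c d (2 * ε, 0, 0)
  rd : (r * d) ^ 3 = nfW c d (0, b, 0)

/-- A state: the coordinates, a power of `d`, a power of `f`, and possibly `r d ^ q`. -/
abbrev St : Type := V4 × Fin 7 × Fin 3 × Option (Fin 7)

/-- The value of the normal part of the triple of `r d r`. -/
def y1 (ε b : Fin 4) : V4 := (0, b, 0) + dP 6 (2 * ε, 0, 0)

/-- The value of the normal part of the triple of `r d⁻¹ r`. -/
def y6 (ε b : Fin 4) : V4 :=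
  (2 * ε, 0, 0) + dV (2 * ε, 0, 0) + dV (rV (dV ((2 * ε, 0, 0) + -y1 ε b)))

/-- `r d ^ q r` as a normal form. -/
def tab (ε b : Fin 4) : Fin 7 → St :=
  ![((2 * ε, 0, 0), 0, 0, none), (y1 ε b, 6, 0, some 6), (fP 2 (y1 ε b), 3, 1, some 3),
    (fP 4 (y6 ε b), 4 * 4 * 1, 2, some (4 * 4 * 1)), (fP 4 (y1 ε b), 4 * 4 * 6, 2, some (4 * 4 * 6)),
    (fP 2 (y6 ε b), 4 * 1, 1, some (4 * 1)), (y6 ε b, 1, 0, some 1)]

/-- The letters `c, d, f, r`. -/
def step (ε b : Fin 4) : St → Fin 4 → St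
  | (v, i, j, none), 0 => (v + dP i (fP j (1, 0, 0)), i, j, none)
  | (v, i, j, none), 1 => (v, i + 2 ^ (j : ℕ), j, none)
  | (v, i, j, none), 2 => (v, i, j + 1, none)
  | (v, i, j, none), 3 => (v, i, j, some 0)
  | (v, i, j, some q), 0 => (v + dP i (fP j (rV (dP q (1, 0, 0)))), i, j, some q)
  | (v, i, j, some q), 1 => (v, i, j, some (q + 1))
  | (v, i, j, some q), 2 => (v, i, j + 2, some (4 * q))
  | (v, i, j, some q), 3 =>
    let T := tab ε b q
    (v + dP i (fP j T.1), i + 2 ^ (j : ℕ) * T.2.1, j + T.2.2.1, T.2.2.2)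

/-- Multiplying by a word. -/
def run (ε b : Fin 4) (s : St) (u : List (Fin 4)) : St := u.foldl (step ε b) s

/-- The start. -/
def start : St := (0, 0, 0, none)

section Sound

variable {G : Type*} [Group G] {c d f r : G} {ε b : Fin 4}

/-- The element of a state. -/
def ev (c d f r : G) (s : St) : G :=
  nfW c d s.1 * d ^ (s.2.1 : ℕ) * f ^ (s.2.2.1 : ℕ) *
    match s.2.2.2 with
    | none => 1
    | some q => r * d ^ (q : ℕ)

/-- The element of a letter. -/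
def lt (c d f r : G) (l : Fin 4) : G := ![c, d, f, r] l

variable (h : Pre c d f r ε b)
include h

theorem Pre.fmod (n : ℕ) : f ^ n = f ^ (n % 3) := by
  conv_lhs => rw [← Nat.div_add_mod n 3, pow_add, pow_mul, h.f3, one_pow, one_mul]

theorem Pre.conj_f (v : V4) : f * nfW c d v * f⁻¹ = nfW c d (fV v) := by
  have e : f * e1 c d * f⁻¹ = e2 c d := by
    calc f * e1 c d * f⁻¹ = (f * d * f⁻¹) * (f * c * f⁻¹) * (f * d * f⁻¹)⁻¹ := by
          simp only [e1]; group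
      _ = e2 c d := by rw [h.fd, h.fc]; simp only [e2]; group
  have e' : f * e2 c d * f⁻¹ = nfW c d (fV (0, 0, 1)) := by
    rw [show fV (0, 0, 1) = dP 4 (1, 0, 0) by decide +kernel, ← h.conj_dpow]
    calc f * e2 c d * f⁻¹ =
          (f * d * f⁻¹) * (f * d * f⁻¹) * (f * c * f⁻¹) * ((f * d * f⁻¹) * (f * d * f⁻¹))⁻¹ := by
          simp only [e2]; group
      _ = _ := by
          rw [h.fd, h.fc]
          simp [nfW, pow_succ, mul_assoc]
  exact h.conj_of (by decide +kernel) (by simp [nfW, fV, h.fc])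
    (by rw [e, show fV (0, 1, 0) = (0, 0, 1) by decide +kernel]; simp [nfW]) e' v

theorem Pre.fpow_nf (n : ℕ) (v : V4) : f ^ n * nfW c d v = nfW c d (fP n v) * f ^ n := by
  induction n with
  | zero => simp [fP]
  | succ n ih =>
    rw [fP, ← h.conj_f, pow_succ', mul_assoc, ih]
    group

theorem Pre.conj_r (v : V4) : r * nfW c d v * r⁻¹ = nfW c d (rV v) :=
  h.conj_of (by decide +kernel)
    (by
      rw [h.rc, show rV (1, 0, 0) = -(1, 0, 0) by decide +kernel, h.nf_neg]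
      simp [nfW])
    (by rw [h.re]; simp [nfW, rV]) (by rw [h.re2]; simp [nfW, rV]) v

theorem Pre.r_nf (v : V4) : r * nfW c d v = nfW c d (rV v) * r := by rw [← h.conj_r v]; group

theorem Pre.fdn (j n : ℕ) : f ^ j * d ^ n = d ^ (2 ^ j * n) * f ^ j := by
  induction j with
  | zero => simp
  | succ j ih =>
    have e : ∀ m : ℕ, f * d ^ m = d ^ (2 * m) * f := by
      intro m
      rw [pow_mul, show d ^ 2 = f * d * f⁻¹ by rw [pow_two, h.fd], conj_pow]; group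
    rw [pow_succ', mul_assoc, ih, ← mul_assoc, e, mul_assoc, ← mul_assoc 2, ← pow_succ']

theorem Pre.df (n : ℕ) : d ^ n * f = f * d ^ (4 * n) := by
  have e := h.fdn 1 (4 * n)
  rw [pow_one] at e
  rw [e, h.dmod (2 ^ 1 * (4 * n)), show 2 ^ 1 * (4 * n) % 7 = n % 7 by omega, ← h.dmod]

theorem Pre.rf_mul : r * f = f ^ 2 * r := by
  have e : f ^ 2 = f⁻¹ := eq_inv_of_mul_eq_one_left (by rw [← pow_succ, h.f3])
  rw [e, ← h.rf]; group

theorem Pre.rd1 : r * d ^ 1 * r = nfW c d (y1 ε b) * d ^ 6 * (r * d ^ 6) := by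
  have hx : r⁻¹ = nfW c d (2 * ε, 0, 0) * r := by
    apply inv_eq_of_mul_eq_one_left
    rw [mul_assoc, h.rr, h.nf_mul, (two_mul_facts ε).1, h.nf_zero]
  have hd : d⁻¹ = d ^ 6 := inv_eq_of_mul_eq_one_right (by rw [← pow_succ', h.d7])
  calc r * d ^ 1 * r = (r * d) ^ 3 * (d⁻¹ * (r⁻¹ * d⁻¹)) := by
        rw [pow_one, pow_succ, pow_two]; group
    _ = nfW c d (0, b, 0) * (d ^ 6 * nfW c d (2 * ε, 0, 0)) * (r * d ^ 6) := by
        rw [h.rd, hx, hd]; simp only [mul_assoc]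
    _ = _ := by rw [h.dpow_nf, y1, ← h.nf_mul]; simp only [mul_assoc]

theorem Pre.rd6 : r * d ^ 6 * r = nfW c d (y6 ε b) * d ^ 1 * (r * d ^ 1) := by
  set x : V4 := (2 * ε, 0, 0) with hxdef
  have hxx : x + x = 0 := (two_mul_facts ε).1
  have hx : r⁻¹ = nfW c d x * r := by
    apply inv_eq_of_mul_eq_one_left
    rw [mul_assoc, h.rr, h.nf_mul, hxx, h.nf_zero]
  have hd : d⁻¹ = d ^ 6 := inv_eq_of_mul_eq_one_right (by rw [← pow_succ', h.d7])
  have hd6 : (d ^ 6)⁻¹ = d := by rw [← hd, inv_inv]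
  have e : r * d ^ 6 * r = (r⁻¹ * d * r⁻¹)⁻¹ := by rw [← hd]; group
  have e2 : r⁻¹ * d * r⁻¹ = nfW c d x * (r * d ^ 1 * r) * nfW c d x := by
    have hxr : r * nfW c d x = nfW c d x * r := by
      rw [h.r_nf, show rV x = x from (two_mul_facts ε).2.2]
    calc r⁻¹ * d * r⁻¹ = nfW c d x * r * d * (nfW c d x * r) := by rw [hx]
      _ = _ := by simp only [pow_one, mul_assoc, hxr]
  rw [e, e2, h.rd1]
  simp only [mul_inv_rev, hd6, ← h.nf_neg, show -x = x from (two_mul_facts ε).2.1]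
  calc nfW c d x * (d * r⁻¹ * (d * nfW c d (-y1 ε b)) * nfW c d x)
      = nfW c d x * (d ^ 1 * nfW c d x) * r * (d ^ 1 * nfW c d (-y1 ε b + x)) := by
        rw [hx, ← h.nf_mul, pow_one]; simp only [mul_assoc]
    _ = nfW c d x * nfW c d (dP 1 x) * d ^ 1 * (r * nfW c d (dP 1 (-y1 ε b + x))) * d ^ 1 := by
        rw [h.dpow_nf, h.dpow_nf]; simp only [mul_assoc]
    _ = nfW c d x * nfW c d (dP 1 x) * (d ^ 1 * nfW c d (rV (dP 1 (-y1 ε b + x)))) * (r * d ^ 1) := by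
        rw [h.r_nf]; simp only [mul_assoc]
    _ = _ := by
        rw [h.dpow_nf, y6, ← hxdef, ← h.nf_mul, ← h.nf_mul, add_comm x (-y1 ε b)]
        simp only [dP, mul_assoc]

theorem Pre.rd_double {a i q : ℕ} {j : ℕ} {v : V4}
    (e : r * d ^ a * r = nfW c d v * d ^ i * f ^ j * (r * d ^ q)) :
    r * d ^ (2 * a) * r = nfW c d (fP 2 v) * d ^ (4 * i) * f ^ (j + 1) * (r * d ^ (4 * q)) := by
  have e1 : d ^ (2 * a) = f * d ^ a * f⁻¹ := by
    rw [pow_mul, show d ^ 2 = f * d * f⁻¹ by rw [pow_two, h.fd], conj_pow]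
  have e2 : f⁻¹ = f ^ 2 := inv_eq_of_mul_eq_one_right (by rw [← pow_succ', h.f3])
  calc r * d ^ (2 * a) * r = (r * f * r⁻¹) * (r * d ^ a * r) * (r⁻¹ * f⁻¹ * r) := by rw [e1]; group
    _ = (f ^ 2 * nfW c d v) * d ^ i * f ^ j * (r * (d ^ q * f)) := by
        rw [e, h.rf, show r⁻¹ * f⁻¹ * r = f by rw [← h.rf]; group, e2]; simp only [mul_assoc]
    _ = nfW c d (fP 2 v) * (f ^ 2 * d ^ i) * f ^ j * ((r * f) * d ^ (4 * q)) := by
        rw [h.fpow_nf, h.df]; simp only [mul_assoc]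
    _ = nfW c d (fP 2 v) * d ^ (4 * i) * (f ^ 2 * f ^ j * f ^ 2) * (r * d ^ (4 * q)) := by
        rw [h.fdn, h.rf_mul, show 2 ^ 2 * i = 4 * i by norm_num]; simp only [mul_assoc]
    _ = _ := by rw [← pow_add, ← pow_add, h.fmod (2 + j + 2), show (2 + j + 2) % 3 = (j + 1) % 3 by omega, ← h.fmod]

theorem Pre.tab_ok (q : Fin 7) : r * d ^ (q : ℕ) * r = ev c d f r (tab ε b q) := by
  have t1 : r * d ^ 1 * r = nfW c d (y1 ε b) * d ^ 6 * f ^ 0 * (r * d ^ 6) := by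
    rw [h.rd1, pow_zero, mul_one]
  have t6 : r * d ^ 6 * r = nfW c d (y6 ε b) * d ^ 1 * f ^ 0 * (r * d ^ 1) := by
    rw [h.rd6, pow_zero, mul_one]
  have t2 := h.rd_double t1
  have t4 := h.rd_double t2
  have t5 := h.rd_double t6
  have t3 := h.rd_double t5
  have f4 : ∀ v : V4, fP 2 (fP 2 v) = fP 4 v := fun v => rfl
  rw [f4] at t4 t3
  fin_cases q
  · show r * d ^ 0 * r = nfW c d (2 * ε, 0, 0) * d ^ 0 * f ^ 0 * 1
    simp [h.rr]
  · exact t1
  · show r * d ^ 2 * r = nfW c d (fP 2 (y1 ε b)) * d ^ 3 * f ^ 1 * (r * d ^ 3)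
    rw [t2, h.dmod (4 * 6)]
  · show r * d ^ 3 * r = nfW c d (fP 4 (y6 ε b)) * d ^ 2 * f ^ 2 * (r * d ^ 2)
    rw [h.dmod (2 * (2 * 6))] at t3
    rw [t3, h.dmod (4 * (4 * 1))]
  · show r * d ^ 4 * r = nfW c d (fP 4 (y1 ε b)) * d ^ 5 * f ^ 2 * (r * d ^ 5)
    rw [t4, h.dmod (4 * (4 * 6))]
  · show r * d ^ 5 * r = nfW c d (fP 2 (y6 ε b)) * d ^ 4 * f ^ 1 * (r * d ^ 4)
    rw [h.dmod (2 * 6)] at t5
    rw [t5]
  · exact t6

theorem Pre.step_ok (s : St) (l : Fin 4) : ev c d f r (step ε b s l) = ev c d f r s * lt c d f r l := by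
  obtain ⟨v, i, j, q⟩ := s
  have hc : c = nfW c d (1, 0, 0) := by simp [nfW]
  have hpush : ∀ w : V4, d ^ (i : ℕ) * f ^ (j : ℕ) * nfW c d w =
      nfW c d (dP i (fP j w)) * (d ^ (i : ℕ) * f ^ (j : ℕ)) := fun w => by
    rw [mul_assoc, h.fpow_nf, ← mul_assoc, h.dpow_nf, mul_assoc]
  have hi : ∀ a : Fin 7, d ^ ((i + a : Fin 7) : ℕ) = d ^ (i : ℕ) * d ^ (a : ℕ) := fun a => by
    rw [Fin.val_add, ← h.dmod, pow_add]
  have hj : ∀ a : Fin 3, f ^ ((j + a : Fin 3) : ℕ) = f ^ (j : ℕ) * f ^ (a : ℕ) := fun a => by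
    rw [Fin.val_add, ← h.fmod, pow_add]
  have hij : ∀ a : Fin 7, d ^ ((i + 2 ^ (j : ℕ) * a : Fin 7) : ℕ) * f ^ (j : ℕ) =
      d ^ (i : ℕ) * f ^ (j : ℕ) * d ^ (a : ℕ) := fun a => by
    rw [hi, mul_assoc, mul_assoc, h.fdn]
    congr 2
    rw [h.dmod (2 ^ (j : ℕ) * a)]
    congr 1
    clear hpush hi hj h
    revert j a
    decide +kernel
  have hpc : d ^ (i : ℕ) * f ^ (j : ℕ) * c = nfW c d (dP i (fP j (1, 0, 0))) * (d ^ (i : ℕ) * f ^ (j : ℕ)) := by
    have e := hpush (1, 0, 0)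
    rwa [← hc] at e
  fin_cases l <;> rcases q with _ | q <;> simp only [step, ev, lt, Matrix.cons_val_zero, Matrix.cons_val_one,
    Matrix.head_cons, Fin.reduceFinMk, Fin.isValue, Matrix.cons_val, mul_one]
  · rw [mul_assoc (nfW c d v) (d ^ (i : ℕ)), mul_assoc (nfW c d v) (d ^ (i : ℕ) * f ^ (j : ℕ)) c, hpc,
      ← mul_assoc, h.nf_mul]
    simp only [mul_assoc]
  · have e : r * d ^ (q : ℕ) * c = nfW c d (rV (dP q (1, 0, 0))) * (r * d ^ (q : ℕ)) := by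
      have e := h.dpow_nf q (1, 0, 0)
      rw [← hc] at e
      rw [mul_assoc, e, ← mul_assoc, h.r_nf, mul_assoc]
    rw [mul_assoc _ (r * d ^ (q : ℕ)) c, e, ← mul_assoc _ (nfW c d (rV (dP q (1, 0, 0)))),
      mul_assoc (nfW c d v) (d ^ (i : ℕ)) (f ^ (j : ℕ)), mul_assoc (nfW c d v) _ (nfW c d (rV _)), hpush,
      ← mul_assoc (nfW c d v), h.nf_mul]
    simp only [mul_assoc]
  · have := hij 1
    simp only [Fin.val_one, pow_one, mul_one] at this
    rw [mul_assoc (nfW c d v), this]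
    simp only [mul_assoc]
  · rw [Fin.val_add, ← h.dmod, pow_add]
    simp only [Fin.val_one, pow_one, mul_assoc]
  · rw [hj]
    simp only [Fin.val_one, pow_one, mul_assoc]
  · have e : r * d ^ (q : ℕ) * f = f ^ 2 * (r * d ^ ((4 * q : Fin 7) : ℕ)) := by
      rw [mul_assoc, h.df, ← mul_assoc, h.rf_mul, mul_assoc, Fin.val_mul, ← h.dmod]
      rfl
    rw [hj, mul_assoc _ (r * d ^ (q : ℕ)) f, e, show ((2 : Fin 3) : ℕ) = 2 from rfl]
    simp only [mul_assoc]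
  · simp
  · have e := h.tab_ok q
    generalize tab ε b q = T at e ⊢
    obtain ⟨w, i2, j2, q2⟩ := T
    simp only [ev] at e ⊢
    have key : ∀ X : G, nfW c d v * d ^ (i : ℕ) * f ^ (j : ℕ) * (nfW c d w * d ^ (i2 : ℕ) * f ^ (j2 : ℕ) * X) =
        nfW c d v * nfW c d (dP i (fP j w)) * d ^ ((i + 2 ^ (j : ℕ) * i2 : Fin 7) : ℕ) *
          (f ^ (j : ℕ) * f ^ (j2 : ℕ)) * X := by
      intro X
      calc _ = nfW c d v * ((d ^ (i : ℕ) * f ^ (j : ℕ) * nfW c d w) * d ^ (i2 : ℕ) * f ^ (j2 : ℕ)) * X := by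
            simp only [mul_assoc]
        _ = nfW c d v * (nfW c d (dP i (fP j w)) * (d ^ (i : ℕ) * f ^ (j : ℕ) * d ^ (i2 : ℕ)) * f ^ (j2 : ℕ)) * X := by
            rw [hpush]; simp only [mul_assoc]
        _ = _ := by rw [← hij]; simp only [mul_assoc]
    rw [mul_assoc _ (r * d ^ (q : ℕ)) r, e, hj, ← h.nf_mul]
    exact (key _).symm

theorem Pre.run_ok (u : List (Fin 4)) (s : St) :
    ev c d f r (run ε b s u) = ev c d f r s * (u.map (lt c d f r)).prod := by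
  induction u generalizing s with
  | nil => simp [run]
  | cons a u ih =>
    rw [run, List.foldl_cons, ← run, ih, h.step_ok, List.map_cons, List.prod_cons, mul_assoc]

theorem Pre.word (u : List (Fin 4)) : (u.map (lt c d f r)).prod = ev c d f r (run ε b start u) := by
  rw [h.run_ok]
  simp [start, ev, h.nf_zero]

end Sound

end Cfsg.Agent.HSRecog.Machine
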