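import Cfsg.Agent.HSRecog.Basic

/-!
The group `4^3 : L₃(2)` as affine permutations of the 64 points of its abelian normal subgroup.
-/

set_option autoImplicit false
set_option maxRecDepth 100000

namespace Cfsg.Agent.HSRecog

open Equiv

/-- The images under `cM`. -/
def cL : List ℕ := [16,17,18,19,20,21,22,23,24,25,26,27,28,29,30,31,32,33,34,35,36,37,38,39,40,41,42,43,44,45,46,47,48,49,50,51,52,53,54,55,56,57,58,59,60,61,62,63,0,1,2,3,4,5,6,7,8,9,10,11,12,13,14,15]

/-- The images under the inverse of `cM`. -/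
def cLi : List ℕ := [48,49,50,51,52,53,54,55,56,57,58,59,60,61,62,63,0,1,2,3,4,5,6,7,8,9,10,11,12,13,14,15,16,17,18,19,20,21,22,23,24,25,26,27,28,29,30,31,32,33,34,35,36,37,38,39,40,41,42,43,44,45,46,47]

/-- The images under `dM`. -/
def dL : List ℕ := [0,30,40,54,1,31,41,55,2,28,42,52,3,29,43,53,4,18,44,58,5,19,45,59,6,16,46,56,7,17,47,57,8,22,32,62,9,23,33,63,10,20,34,60,11,21,35,61,12,26,36,50,13,27,37,51,14,24,38,48,15,25,39,49]

/-- The images under the inverse of `dM`. -/
def dLi : List ℕ := [0,4,8,12,16,20,24,28,32,36,40,44,48,52,56,60,25,29,17,21,41,45,33,37,57,61,49,53,9,13,1,5,34,38,42,46,50,54,58,62,2,6,10,14,18,22,26,30,59,63,51,55,11,15,3,7,27,31,19,23,43,47,35,39]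

/-- The images under `fM`. -/
def fL : List ℕ := [0,47,10,37,1,44,11,38,2,45,8,39,3,46,9,36,16,63,26,53,17,60,27,54,18,61,24,55,19,62,25,52,32,15,42,5,33,12,43,6,34,13,40,7,35,14,41,4,48,31,58,21,49,28,59,22,50,29,56,23,51,30,57,20]

/-- The images under the inverse of `fM`. -/
def fLi : List ℕ := [0,4,8,12,47,35,39,43,10,14,2,6,37,41,45,33,16,20,24,28,63,51,55,59,26,30,18,22,53,57,61,49,32,36,40,44,15,3,7,11,42,46,34,38,5,9,13,1,48,52,56,60,31,19,23,27,58,62,50,54,21,25,29,17]

/-- The images under `rM`. -/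
def rL : List ℕ := [0,4,8,12,1,5,9,13,2,6,10,14,3,7,11,15,48,52,56,60,49,53,57,61,50,54,58,62,51,55,59,63,32,36,40,44,33,37,41,45,34,38,42,46,35,39,43,47,16,20,24,28,17,21,25,29,18,22,26,30,19,23,27,31]

/-- The images under the inverse of `rM`. -/
def rLi : List ℕ := [0,4,8,12,1,5,9,13,2,6,10,14,3,7,11,15,48,52,56,60,49,53,57,61,50,54,58,62,51,55,59,63,32,36,40,44,33,37,41,45,34,38,42,46,35,39,43,47,16,20,24,28,17,21,25,29,18,22,26,30,19,23,27,31]

/-- A point of the list. -/
def ptL (L : List ℕ) (i : Fin 64) : Fin 64 := ⟨L.getD i.val 0 % 64, Nat.mod_lt _ (by norm_num)⟩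

/-- The permutation `c`. -/
def cM : Perm (Fin 64) := ⟨ptL cL, ptL cLi, by decide +kernel, by decide +kernel⟩

/-- The permutation `d`. -/
def dM : Perm (Fin 64) := ⟨ptL dL, ptL dLi, by decide +kernel, by decide +kernel⟩

/-- The permutation `f`. -/
def fM : Perm (Fin 64) := ⟨ptL fL, ptL fLi, by decide +kernel, by decide +kernel⟩

/-- The permutation `r`. -/
def rM : Perm (Fin 64) := ⟨ptL rL, ptL rLi, by decide +kernel, by decide +kernel⟩

theorem rel_M : MRel cM dM fM rM := by
  constructor <;> decide +kernel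

/-- The model. -/
def MM : Subgroup (Perm (Fin 64)) := Subgroup.closure {cM, dM, fM, rM}

/-- `c` in the model. -/
def cQ : MM := ⟨cM, Subgroup.subset_closure (by simp)⟩

/-- `d` in the model. -/
def dQ : MM := ⟨dM, Subgroup.subset_closure (by simp)⟩

/-- `f` in the model. -/
def fQ : MM := ⟨fM, Subgroup.subset_closure (by simp)⟩

/-- `r` in the model. -/
def rQ : MM := ⟨rM, Subgroup.subset_closure (by simp)⟩

theorem closure_MM : Subgroup.closure ({cQ, dQ, fQ, rQ} : Set MM) = ⊤ := by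
  apply Subgroup.map_injective MM.subtype_injective
  rw [MonoidHom.map_closure, ← MonoidHom.range_eq_map, Subgroup.range_subtype]
  show _ = Subgroup.closure {cM, dM, fM, rM}
  congr 1
  rw [Set.image_insert_eq, Set.image_insert_eq, Set.image_insert_eq, Set.image_singleton]
  rfl

/-- The letters of the tables. -/
def lq (g : ℕ) : MM := [cQ, cQ⁻¹, dQ, dQ⁻¹, fQ, fQ⁻¹, rQ].getD g 1

end Cfsg.Agent.HSRecog
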