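import Cfsg.Agent.HSRecog.Top.Glue
import Cfsg.Agent.HSRecog.Ident
import Cfsg.Agent.HSRecog.Bound

/-!
The subgroup generated by the five elements is everything.
-/

set_option autoImplicit false

namespace Cfsg.Agent.HSRecog

/-- The subgroup generated by the five elements is the whole group. -/
theorem eq_top {G : Type*} [Group G] [Finite G] {c d f r h : G} (hR : HSRel c d f r h)
    (hord : orderOf (c * c) = 2)
    (hcen : Subgroup.centralizer ({c * c} : Set G) ≤ Subgroup.closure (genSet c d f r h))
    (hcard : Nat.card (Subgroup.centralizer ({c * c} : Set G)) = 7680) :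
    Subgroup.closure (genSet c d f r h) = ⊤ := by
  set G0 := Subgroup.closure (genSet c d f r h) with hG0
  have hm : ∀ x ∈ genSet c d f r h, x ∈ G0 := fun x hx => Subgroup.subset_closure hx
  let c' : G0 := ⟨c, hm c (by simp [genSet])⟩
  let d' : G0 := ⟨d, hm d (by simp [genSet])⟩
  let f' : G0 := ⟨f, hm f (by simp [genSet])⟩
  let r' : G0 := ⟨r, hm r (by simp [genSet])⟩
  let h' : G0 := ⟨h, hm h (by simp [genSet])⟩
  have hgen : Subgroup.closure (genSet c' d' f' r' h') = ⊤ := by
    apply Subgroup.map_injective G0.subtype_injective
    rw [MonoidHom.map_closure, ← MonoidHom.range_eq_map, Subgroup.range_subtype]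
    show _ = Subgroup.closure (genSet c d f r h)
    congr 1
    simp [genSet, Set.image_insert_eq, c', d', f', r', h']
  have hiso : Cfsg.Spor.IsoHS G0 :=
    isoHS_of_rel (HSRel.pullback (c := c') (d := d') (f := f') (r := r') (h := h') G0.subtype
      G0.subtype_injective hR) hgen
      (fun e => by
        have e' : c * c = 1 := congrArg Subtype.val e
        rw [e', orderOf_one] at hord
        exact absurd hord (by norm_num))
      (fun X _ _ a b e u w hX hg => card_le X a b e u w hX hg)
  exact Top.eq_top_of_isoHS G0 hiso (hcen (Subgroup.mem_centralizer_singleton_iff.mpr rfl)) hord hcen hcard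

end Cfsg.Agent.HSRecog
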